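import Cfsg.Agent.Lib.SmallGroups.Mod.Stage
import Cfsg.Agent.S0801
import Mathlib.FieldTheory.IntermediateField.Adjoin.Basic
import Mathlib.LinearAlgebra.Matrix.SpecialLinearGroup

/-!
# The fixed points of the elements of order `p` on the conic

If a group with a self-centralizing `⟨z⟩` of order `p ≥ 5` has an orthogonal module of dimension
three on which `z` is a regular unipotent element then it has at most `p + 1` Sylow `p`-subgroups.
-/

set_option autoImplicit false

namespace Cfsg.Agent.SmallGroups.Mod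

open Matrix

variable {k : Type*} [Field k]

/-- The symmetric square of a `2 × 2` matrix. -/
def sym2 (M : Matrix (Fin 2) (Fin 2) k) : Matrix (Fin 3) (Fin 3) k :=
  !![M 0 0 ^ 2, 2 * M 0 0 * M 0 1, M 0 1 ^ 2;
    M 0 0 * M 1 0, M 0 0 * M 1 1 + M 0 1 * M 1 0, M 0 1 * M 1 1;
    M 1 0 ^ 2, 2 * M 1 0 * M 1 1, M 1 1 ^ 2]

theorem sym2_one : sym2 (1 : Matrix (Fin 2) (Fin 2) k) = 1 := by
  ext i j
  fin_cases i <;> fin_cases j <;> simp [sym2]

theorem sym2_mul (A B : Matrix (Fin 2) (Fin 2) k) : sym2 (A * B) = sym2 A * sym2 B := by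
  ext i j
  fin_cases i <;> fin_cases j <;>
    simp [sym2, Matrix.mul_apply, Fin.sum_univ_two, Fin.sum_univ_three] <;> ring

/-- Lower unitriangular. -/
def low (c : k) : Matrix (Fin 2) (Fin 2) k := !![1, 0; c, 1]
/-- Upper unitriangular. -/
def upp (c : k) : Matrix (Fin 2) (Fin 2) k := !![1, c; 0, 1]

theorem low_mul (a b : k) : low a * low b = low (a + b) := by
  ext i j
  fin_cases i <;> fin_cases j <;> simp [low]

theorem low_zero : low (0 : k) = 1 := by
  ext i j
  fin_cases i <;> fin_cases j <;> simp [low]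

/-- The transvection fixing the point `(1, x)`. -/
def point (x ν : k) : Matrix (Fin 3) (Fin 3) k := sym2 (low x * upp ν * low (-x))

theorem sym2_low_one : sym2 (low (1 : k)) = adA k := by
  ext i j
  fin_cases i <;> fin_cases j <;> simp [sym2, low, adA]

theorem sym2_low_comm (a b : k) : sym2 (low a) * sym2 (low b) = sym2 (low b) * sym2 (low a) := by
  rw [← sym2_mul, ← sym2_mul, low_mul, low_mul, add_comm]

theorem sym2_low_cancel (a : k) : sym2 (low a) * sym2 (low (-a)) = 1 := by
  rw [← sym2_mul, low_mul, add_neg_cancel, low_zero, sym2_one]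

theorem sym2_low_cancel' (a : k) : sym2 (low (-a)) * sym2 (low a) = 1 := by
  rw [← sym2_mul, low_mul, neg_add_cancel, low_zero, sym2_one]

theorem point_comm (x a b : k) : point x a * point x b = point x b * point x a := by
  have e : ∀ a b : k, point x a * point x b = point x (a + b) := fun a b => by
    simp only [point, ← sym2_mul]
    congr 1
    ext i j
    fin_cases i <;> fin_cases j <;> simp [low, upp, Matrix.mul_apply, Fin.sum_univ_two] <;> ring
  rw [e, e, add_comm]

theorem point_pow (x ν : k) (i : ℕ) : point x ν ^ i = point x ((i : k) * ν) := by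
  induction i with
  | zero =>
    rw [pow_zero, point, Nat.cast_zero, zero_mul]
    have : upp (0 : k) = 1 := by ext i j; fin_cases i <;> fin_cases j <;> simp [upp]
    rw [this, Matrix.mul_one, sym2_mul, sym2_low_cancel]
  | succ i ih =>
    rw [pow_succ, ih, point, point, ← sym2_mul, point]
    congr 1
    ext i j
    fin_cases i <;> fin_cases j <;> simp [low, upp, Matrix.mul_apply, Fin.sum_univ_two] <;> ring

/-- An isometry of determinant one fixing the last basis vector. -/
theorem eq_low_of_fix (h2 : (2 : k) ≠ 0) {M : Matrix (Fin 3) (Fin 3) k}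
    (hM : Mᵀ * form3 k * M = form3 k) (hdet : M.det = 1) (h0 : M 0 2 = 0) (h1 : M 1 2 = 0)
    (h22 : M 2 2 = 1) : M = sym2 (low (M 1 0)) := by
  have e := fun i j : Fin 3 => congrFun (congrFun hM i) j
  have a00 := e 0 0
  have a01 := e 0 1
  have a02 := e 0 2
  have a12 := e 1 2
  simp [form3, Matrix.mul_apply, Fin.sum_univ_three, h0, h1, h22] at a00 a01 a02 a12
  rw [Matrix.det_fin_three] at hdet
  simp [h0, h1, h22, a12, a02] at hdet
  have b21 : M 2 1 = 2 * M 1 0 := by
    simp [a12, a02, hdet] at a01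
    linear_combination a01
  have b20 : M 2 0 = M 1 0 ^ 2 := by
    refine mul_left_cancel₀ h2 ?_
    simp [a12, a02] at a00
    linear_combination a00
  ext i j
  fin_cases i <;> fin_cases j <;> simp [sym2, low, h0, h1, h22, a12, a02, hdet, b21, b20]

/-- An isometry of determinant one fixing the first basis vector. -/
theorem eq_upp_of_fix (h2 : (2 : k) ≠ 0) {M : Matrix (Fin 3) (Fin 3) k}
    (hM : Mᵀ * form3 k * M = form3 k) (hdet : M.det = 1) (h0 : M 0 0 = 1) (h1 : M 1 0 = 0)
    (h22 : M 2 0 = 0) : M = sym2 (upp (M 1 2)) := by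
  have e := fun i j : Fin 3 => congrFun (congrFun hM i) j
  have a01 := e 0 1
  have a02 := e 0 2
  have a12 := e 1 2
  have a22 := e 2 2
  simp [form3, Matrix.mul_apply, Fin.sum_univ_three, h0, h1, h22] at a01 a02 a12 a22
  rw [Matrix.det_fin_three] at hdet
  simp [h0, h1, h22, a01, a02] at hdet
  have b01 : M 0 1 = 2 * M 1 2 := by
    simp [a01, a02, hdet] at a12
    linear_combination a12
  have b02 : M 0 2 = M 1 2 ^ 2 := by
    refine mul_left_cancel₀ h2 ?_
    simp [a01, a02] at a22
    linear_combination a22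
  ext i j
  fin_cases i <;> fin_cases j <;> simp [sym2, upp, h0, h1, h22, a01, a02, hdet, b01, b02]

variable {p : ℕ} [Fact p.Prime] [CharP k p] {G : Type*} [Group G] [Finite G]

/-- Elements of the prime field. -/
def InPrime (p : ℕ) [CharP k p] (x : k) : Prop := ∃ a : ZMod p, ZMod.castHom (dvd_refl p) k a = x

theorem exists_subfield (p : ℕ) [Fact p.Prime] [CharP k p] {ν : k} {N : ℕ} (hN : 0 < N)
    (hpow : (sym2 (low 1 * upp ν)) ^ N = 1) :
    ∃ (F : Subfield k) (_ : Fintype F) (hν : ν ∈ F),
      Subfield.closure ({(⟨ν, hν⟩ : F)} : Set F) = ⊤ := by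
  classical
  letI : Algebra (ZMod p) k := ZMod.algebra k p
  let B : Matrix (Fin 2) (Fin 2) (Polynomial (ZMod p)) :=
    !![1, Polynomial.X; 1, 1 + Polynomial.X]
  have hB : ∀ m : ℕ, ((B ^ m) 1 1).Monic ∧ ((B ^ m) 1 1).degree = m ∧ ((B ^ m) 1 0).degree < m ∨
      m = 0 := by
    intro m
    induction m with
    | zero => exact Or.inr rfl
    | succ m ih =>
      left
      rcases ih with ⟨hmon, hdeg, hlt⟩ | rfl
      · have e11 : (B ^ (m + 1)) 1 1 =
            (B ^ m) 1 1 * (Polynomial.X + 1) + (B ^ m) 1 0 * Polynomial.X := by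
          rw [pow_succ, Matrix.mul_apply, Fin.sum_univ_two]; simp [B]; ring
        have e10 : (B ^ (m + 1)) 1 0 = (B ^ m) 1 0 + (B ^ m) 1 1 := by
          rw [pow_succ, Matrix.mul_apply, Fin.sum_univ_two]; simp [B]
        have h1 : ((B ^ m) 1 1 * (Polynomial.X + 1)).Monic :=
          hmon.mul (Polynomial.monic_X_add_C 1)
        have h1d : ((B ^ m) 1 1 * (Polynomial.X + 1)).degree = ((m + 1 : ℕ) : WithBot ℕ) := by
          rw [Polynomial.degree_mul, hdeg, ← Polynomial.C_1, Polynomial.degree_X_add_C]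
          norm_cast
        have h2 : ((B ^ m) 1 0 * Polynomial.X).degree <
            ((B ^ m) 1 1 * (Polynomial.X + 1)).degree := by
          rw [h1d, Polynomial.degree_mul, Polynomial.degree_X]
          push_cast
          exact WithBot.add_lt_add_right WithBot.one_ne_bot hlt
        refine ⟨?_, ?_, ?_⟩
        · rw [e11]; exact h1.add_of_left h2
        · rw [e11, Polynomial.degree_add_eq_left_of_degree_lt h2, h1d]
        · rw [e10]
          refine lt_of_le_of_lt (Polynomial.degree_add_le _ _) (max_lt ?_ ?_)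
          · exact hlt.trans (by exact_mod_cast Nat.lt_succ_self m)
          · rw [hdeg]; exact_mod_cast Nat.lt_succ_self m
      · refine ⟨?_, ?_, ?_⟩
        · simp only [zero_add, pow_one, B]
          simpa [add_comm] using Polynomial.monic_X_add_C (1 : ZMod p)
        · simp only [zero_add, pow_one, B]
          simpa [add_comm] using Polynomial.degree_X_add_C (1 : ZMod p)
        · simp only [zero_add, pow_one, B]
          simp
  obtain ⟨hmon, hdeg, -⟩ := (hB N).resolve_right hN.ne'
  have halg : IsAlgebraic (ZMod p) ν := by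
    refine ⟨(B ^ N) 1 1 ^ 2 - 1, ?_, ?_⟩
    · intro h
      have h1 := congrArg Polynomial.degree (sub_eq_zero.mp h)
      rw [Polynomial.degree_pow, hdeg, Polynomial.degree_one, nsmul_eq_mul] at h1
      have h2 : (2 * N : ℕ) = 0 := by exact_mod_cast h1
      omega
    · have hmap : B.map (Polynomial.aeval ν) = low 1 * upp ν := by
        ext i j
        fin_cases i <;> fin_cases j <;> simp [B, low, upp, add_comm]
      have hs : sym2 ((low 1 * upp ν) ^ N) = 1 := by
        rw [← hpow]
        clear hpow hN hmon hdeg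
        induction N with
        | zero => rw [pow_zero, pow_zero, sym2_one]
        | succ N ih => rw [pow_succ, pow_succ, sym2_mul, ih]
      have h22 := congrFun (congrFun hs 2) 2
      rw [← hmap, ← AlgHom.mapMatrix_apply, ← map_pow, AlgHom.mapMatrix_apply] at h22
      rw [map_sub, map_pow, map_one, sub_eq_zero]
      simpa [sym2] using h22
  let F := Subfield.closure ({ν} : Set k)
  have hle : F ≤ (IntermediateField.adjoin (ZMod p) ({ν} : Set k)).toSubfield :=
    Subfield.closure_le.mpr (fun x hx => IntermediateField.subset_adjoin _ _ hx)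
  haveI : FiniteDimensional (ZMod p) (IntermediateField.adjoin (ZMod p) ({ν} : Set k)) :=
    IntermediateField.adjoin.finiteDimensional halg.isIntegral
  haveI : Finite (IntermediateField.adjoin (ZMod p) ({ν} : Set k)) :=
    Module.finite_of_finite (ZMod p)
  haveI : Finite F :=
    Finite.of_injective (Set.inclusion (fun x (hx : x ∈ F) => hle hx :
        (F : Set k) ⊆ (IntermediateField.adjoin (ZMod p) ({ν} : Set k) : Set k)))
      (Set.inclusion_injective _)
  have hν : ν ∈ F := Subfield.subset_closure rfl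
  refine ⟨F, Fintype.ofFinite _, hν, ?_⟩
  rw [eq_top_iff]
  intro x _
  have h : (x : k) ∈ (Subfield.closure ({(⟨ν, hν⟩ : F)} : Set F)).map F.subtype := by
    rw [RingHom.map_field_closure, Set.image_singleton]
    exact x.2
  obtain ⟨y, hy, e⟩ := Subfield.mem_map.mp h
  rwa [show x = y from Subtype.ext e.symm]

/-- The elements of `SL₂` over the field of `ν` are realized in the group. -/
theorem exists_realize (hp5 : 5 ≤ p) (R : G →* Matrix (Fin 3) (Fin 3) k) {z y : G} {x ν : k}
    (hν : ν ≠ 0) (hz : R z = adA k) (hy : R y = point x ν) :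
    ∃ (F : Subfield k), ν ∈ F ∧ ∀ g : Matrix (Fin 2) (Fin 2) F, g.det = 1 →
      ∃ u : G, R u = sym2 (low x) * sym2 (g.map F.subtype) * sym2 (low (-x)) := by
  classical
  have hzy : R (z * y) = sym2 (low x) * sym2 (low 1 * upp ν) * sym2 (low (-x)) := by
    rw [map_mul, hz, hy, ← sym2_low_one, point, sym2_mul (low x * upp ν), sym2_mul (low x),
      sym2_mul (low 1)]
    simp only [← mul_assoc, sym2_low_comm x 1]
  have hord : 0 < orderOf (z * y) := orderOf_pos _
  have hpow : (sym2 (low 1 * upp ν)) ^ orderOf (z * y) = 1 := by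
    have h := congrArg R (pow_orderOf_eq_one (z * y))
    rw [map_pow, hzy, map_one] at h
    have e : ∀ n : ℕ, (sym2 (low x) * sym2 (low 1 * upp ν) * sym2 (low (-x))) ^ n =
        sym2 (low x) * sym2 (low 1 * upp ν) ^ n * sym2 (low (-x)) := by
      intro n
      induction n with
      | zero => rw [pow_zero, pow_zero, mul_one, sym2_low_cancel]
      | succ n ih =>
        rw [pow_succ, ih, pow_succ]
        simp only [mul_assoc]
        rw [← mul_assoc (sym2 (low (-x))) (sym2 (low x)), sym2_low_cancel', one_mul]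
    rw [e] at h
    calc sym2 (low 1 * upp ν) ^ orderOf (z * y)
        = (sym2 (low (-x)) * sym2 (low x)) * sym2 (low 1 * upp ν) ^ orderOf (z * y) *
          (sym2 (low (-x)) * sym2 (low x)) := by rw [sym2_low_cancel', one_mul, mul_one]
      _ = sym2 (low (-x)) * (sym2 (low x) * sym2 (low 1 * upp ν) ^ orderOf (z * y) *
          sym2 (low (-x))) * sym2 (low x) := by simp only [mul_assoc]
      _ = 1 := by rw [h, mul_one, sym2_low_cancel']
  obtain ⟨F, _, hνF, hgen⟩ := exists_subfield p hord hpow
  refine ⟨F, hνF, ?_⟩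
  haveI : CharP F p := RingHom.charP F.subtype F.subtype.injective p
  have h2 : (2 : F) ≠ 0 := fun h => by
    have := Nat.le_of_dvd two_pos ((CharP.cast_eq_zero_iff F p 2).mp (by exact_mod_cast h))
    omega
  have hmain : Subgroup.closure {g : Matrix.SpecialLinearGroup (Fin 2) F |
      (g : Matrix (Fin 2) (Fin 2) F) = !![1, 0; 1, 1] ∨
      (g : Matrix (Fin 2) (Fin 2) F) = !![1, (⟨ν, hνF⟩ : F); 0, 1]} = ⊤ := by
    rcases S0801.result h2 (⟨ν, hνF⟩ : F) (fun h => hν (congrArg Subtype.val h)) hgen with h | h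
    · exact h.1
    · exfalso
      obtain ⟨f, hpr, hc⟩ := FiniteField.card F p
      rw [h.1] at hc
      have h3 : p ∣ 3 ^ 2 := by
        rw [show (3 : ℕ) ^ 2 = 9 from rfl, hc]; exact dvd_pow_self p f.ne_zero
      have := Nat.le_of_dvd (by norm_num) (hpr.dvd_of_dvd_pow h3)
      omega
  let T : Matrix.SpecialLinearGroup (Fin 2) F → Matrix (Fin 3) (Fin 3) k := fun g =>
    sym2 (low x) * sym2 ((g : Matrix (Fin 2) (Fin 2) F).map F.subtype) * sym2 (low (-x))
  have hTmul : ∀ a b, T (a * b) = T a * T b := fun a b => by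
    show sym2 _ * sym2 (((a : Matrix (Fin 2) (Fin 2) F) * b).map F.subtype) * sym2 _ = _
    rw [Matrix.map_mul, sym2_mul]
    simp only [T]
    simp only [mul_assoc]
    rw [← mul_assoc (sym2 (low (-x))) (sym2 (low x)), sym2_low_cancel', one_mul]
  have hT1 : T 1 = 1 := by
    simp [T, sym2_one, sym2_low_cancel]
  let S : Subgroup (Matrix.SpecialLinearGroup (Fin 2) F) :=
    { carrier := {g | ∃ u : G, R u = T g}
      one_mem' := ⟨1, by rw [map_one, hT1]⟩
      mul_mem' := fun {a b} ⟨u, hu⟩ ⟨v, hv⟩ => ⟨u * v, by rw [map_mul, hu, hv, hTmul]⟩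
      inv_mem' := fun {a} ⟨u, hu⟩ => ⟨u⁻¹, by
        calc R u⁻¹ = R u⁻¹ * (T a * T a⁻¹) := by rw [← hTmul, mul_inv_cancel, hT1, mul_one]
          _ = T a⁻¹ := by rw [← mul_assoc, ← hu, ← map_mul, inv_mul_cancel, map_one, one_mul]⟩ }
  have hle : (⊤ : Subgroup (Matrix.SpecialLinearGroup (Fin 2) F)) ≤ S := by
    rw [← hmain, Subgroup.closure_le]
    rintro g (hg | hg)
    · refine ⟨z, ?_⟩
      show R z = sym2 (low x) * sym2 ((g : Matrix (Fin 2) (Fin 2) F).map F.subtype) * sym2 (low (-x))
      rw [hg, show (!![1, 0; 1, 1] : Matrix (Fin 2) (Fin 2) F).map F.subtype = low 1 by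
        ext i j; fin_cases i <;> fin_cases j <;> simp [low], sym2_low_comm x 1, mul_assoc,
        sym2_low_cancel, mul_one, sym2_low_one, hz]
    · refine ⟨y, ?_⟩
      show R y = sym2 (low x) * sym2 ((g : Matrix (Fin 2) (Fin 2) F).map F.subtype) * sym2 (low (-x))
      rw [hg, show (!![1, (⟨ν, hνF⟩ : F); 0, 1] : Matrix (Fin 2) (Fin 2) F).map F.subtype = upp ν by
        ext i j; fin_cases i <;> fin_cases j <;> simp [upp], hy, point, sym2_mul, sym2_mul]
  intro g hg
  obtain ⟨u, hu⟩ := hle (Subgroup.mem_top (G := Matrix.SpecialLinearGroup (Fin 2) F) ⟨g, hg⟩)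
  exact ⟨u, hu⟩

/-- The count of Sylow subgroups. -/
theorem index_le (hp5 : 5 ≤ p) (R : G →* Matrix (Fin 3) (Fin 3) k) (hinj : Function.Injective R)
    {z : G} (hzord : orderOf z = p) (hz : R z = adA k)
    (hform : ∀ g, (R g)ᵀ * form3 k * R g = form3 k) (H : Subgroup G)
    (hC : ∀ u, Commute u z → u ∈ Subgroup.zpowers z)
    (hN : ∀ g, g * z * g⁻¹ ∈ Subgroup.zpowers z → g ∈ H) :
    Nat.card (G ⧸ H) ≤ p + 1 := by
  classical
  have hp : p.Prime := Fact.out
  have h2 : (2 : k) ≠ 0 := fun h => by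
    have := Nat.le_of_dvd two_pos ((CharP.cast_eq_zero_iff k p 2).mp (by exact_mod_cast h))
    omega
  let φ := ZMod.castHom (dvd_refl p) k
  have hCg : ∀ g u : G, Commute u (g * z * g⁻¹) → u ∈ Subgroup.zpowers (g * z * g⁻¹) := by
    intro g u hu
    have h1 : Commute (g⁻¹ * u * g) z := by
      have := hu.map (MulAut.conj g⁻¹)
      simpa [mul_assoc] using this
    obtain ⟨i, hi⟩ := Subgroup.mem_zpowers_iff.mp (hC _ h1)
    refine ⟨i, ?_⟩
    show (g * z * g⁻¹) ^ i = u
    rw [← MulAut.conj_apply, ← map_zpow, hi]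
    simp [mul_assoc]
  have hcomm : ∀ g u : G, R u * R (g * z * g⁻¹) = R (g * z * g⁻¹) * R u →
      u ∈ Subgroup.zpowers (g * z * g⁻¹) := fun g u h =>
    hCg g u (hinj (by simp only [map_mul] at h ⊢; exact h))
  have hdet1 : ∀ g : G, (R (g * z * g⁻¹)).det = 1 := fun g => by
    rw [map_mul, map_mul, Matrix.det_mul, Matrix.det_mul, mul_right_comm, ← Matrix.det_mul,
      ← map_mul, mul_inv_cancel, map_one, Matrix.det_one, one_mul, hz, Matrix.det_fin_three]
    simp [adA]
  have hfix : ∀ g : G, R (g * z * g⁻¹) *ᵥ (R g *ᵥ Pi.single 2 1) = R g *ᵥ Pi.single 2 1 := by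
    intro g
    rw [Matrix.mulVec_mulVec, ← map_mul, inv_mul_cancel_right, map_mul, ← Matrix.mulVec_mulVec, hz]
    congr 1
    funext i
    fin_cases i <;> simp [adA]
  -- every conjugate of `z` outside `⟨z⟩` is the transvection of a point
  have hpoint : ∀ g : G, g ∉ H → ∃ x ν : k, ν ≠ 0 ∧ R (g * z * g⁻¹) = point x ν := by
    intro g hg
    set M := R (g * z * g⁻¹) with hM
    set v := R g *ᵥ Pi.single 2 1 with hv
    have hv' : ∀ i, v i = R g i 2 := fun i => by rw [hv, Matrix.mulVec_single_one]; rfl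
    have hiso := congrFun (congrFun (hform g) 2) 2
    simp [form3, Matrix.mul_apply, Fin.sum_univ_three, ← hv'] at hiso
    have hf := hfix g
    rw [← hM, ← hv] at hf
    by_cases h0 : v 0 = 0
    · exfalso
      have h1 : v 1 = 0 := by
        simp [h0, h2] at hiso
        exact hiso
      have hv2 : v 2 ≠ 0 := by
        intro h
        have hz' : v = 0 := by funext i; fin_cases i <;> assumption
        have := congrArg (fun t => R g⁻¹ *ᵥ t) hz'
        simp only [hv, Matrix.mulVec_mulVec, ← map_mul, inv_mul_cancel, map_one, Matrix.one_mulVec,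
          Matrix.mulVec_zero] at this
        simpa using congrFun this 2
      have e : ∀ i, M i 2 * v 2 = v i := fun i => by
        conv_rhs => rw [← hf]
        simp [Matrix.mulVec, dotProduct, Fin.sum_univ_three, h0, h1]
      have hlow := eq_low_of_fix h2 (hform _) (hdet1 g)
        ((mul_eq_zero.mp ((e 0).trans h0)).resolve_right hv2)
        ((mul_eq_zero.mp ((e 1).trans h1)).resolve_right hv2)
        (mul_right_cancel₀ hv2 ((e 2).trans (one_mul _).symm))
      rw [← hM] at hlow
      have h3 : g * z * g⁻¹ ∈ Subgroup.zpowers (1 * z * 1⁻¹) := hcomm 1 _ (by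
        rw [one_mul, inv_one, mul_one, ← hM, hz, hlow, ← sym2_low_one]
        exact sym2_low_comm _ _)
      rw [one_mul, inv_one, mul_one] at h3
      exact hg (hN g h3)
    set c := v 1 / v 0 with hc
    have hv1 : v 1 = v 0 * c := by rw [hc]; field_simp
    have hv2 : v 2 = v 0 * c ^ 2 := by
      have : (2 : k) * (v 0 * v 2 - v 1 ^ 2) = 0 := by linear_combination hiso
      have h4 := (mul_eq_zero.mp this).resolve_left h2
      refine mul_left_cancel₀ h0 ?_
      rw [hc]; field_simp
      linear_combination h4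
    set M' := sym2 (low (-c)) * M * sym2 (low c) with hM'
    have hformL : ∀ a : k, (sym2 (low a))ᵀ * form3 k * sym2 (low a) = form3 k := fun a => by
      ext i j
      fin_cases i <;> fin_cases j <;>
        simp [sym2, low, form3, Matrix.mul_apply, Fin.sum_univ_three] <;> ring
    have hM'f : M'ᵀ * form3 k * M' = form3 k := by
      rw [hM', Matrix.transpose_mul, Matrix.transpose_mul]
      calc (sym2 (low c))ᵀ * (Mᵀ * (sym2 (low (-c)))ᵀ) * form3 k * (sym2 (low (-c)) * M * sym2 (low c))
          = (sym2 (low c))ᵀ * (Mᵀ * ((sym2 (low (-c)))ᵀ * form3 k * sym2 (low (-c))) * M) *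
            sym2 (low c) := by simp only [Matrix.mul_assoc]
        _ = form3 k := by rw [hformL, hM, hform, hformL]
    have hM'd : M'.det = 1 := by
      rw [hM', Matrix.det_mul, Matrix.det_mul, mul_right_comm, ← Matrix.det_mul, sym2_low_cancel',
        Matrix.det_one, one_mul, hM, hdet1]
    have hcol : M' *ᵥ Pi.single 0 1 = Pi.single 0 1 := by
      have e1 : sym2 (low c) *ᵥ Pi.single 0 1 = (v 0)⁻¹ • v := by
        funext i
        fin_cases i <;> simp [sym2, low, hv1, hv2, h0]
      rw [hM', ← Matrix.mulVec_mulVec, e1, Matrix.mulVec_smul, ← Matrix.mulVec_mulVec, hf,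
        ← Matrix.mulVec_smul, ← e1, Matrix.mulVec_mulVec, sym2_low_cancel', Matrix.one_mulVec]
    rw [Matrix.mulVec_single_one] at hcol
    have hu := eq_upp_of_fix h2 hM'f hM'd (by simpa using congrFun hcol 0)
      (by simpa using congrFun hcol 1) (by simpa using congrFun hcol 2)
    refine ⟨c, M' 1 2, ?_, ?_⟩
    · intro h
      have h5 : M = 1 := by
        have h6 : M' = 1 := by
          rw [hu, h]
          ext i j; fin_cases i <;> fin_cases j <;> simp [sym2, upp]
        calc M = (sym2 (low c) * sym2 (low (-c))) * M * (sym2 (low c) * sym2 (low (-c))) := by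
              rw [sym2_low_cancel, one_mul, mul_one]
          _ = sym2 (low c) * M' * sym2 (low (-c)) := by rw [hM']; simp only [mul_assoc]
          _ = 1 := by rw [h6, mul_one, sym2_low_cancel]
      have h7 : g * z * g⁻¹ = 1 := hinj (by rw [← hM, h5, map_one])
      have h8 : z = 1 := conj_eq_one_iff.mp h7
      rw [h8, orderOf_one] at hzord
      exact hp.ne_one hzord.symm
    · rw [point, sym2_mul, sym2_mul, ← hu, hM']
      calc M = (sym2 (low c) * sym2 (low (-c))) * M * (sym2 (low c) * sym2 (low (-c))) := by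
            rw [sym2_low_cancel, one_mul, mul_one]
        _ = _ := by simp only [mul_assoc]
  -- the parameter is in the prime field
  have hprime : ∀ (g : G) (x ν : k), ν ≠ 0 → R (g * z * g⁻¹) = point x ν → InPrime p ν := by
    intro g x ν hν hy
    obtain ⟨F, hνF, hF⟩ := exists_realize hp5 R hν hz hy
    obtain ⟨u, hu⟩ := hF !![1, 1; 0, 1] (by simp [Matrix.det_fin_two])
    have hu' : R u = point x 1 := by
      rw [hu, point, show (!![1, 1; 0, 1] : Matrix (Fin 2) (Fin 2) F).map F.subtype = upp 1 by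
        ext i j; fin_cases i <;> fin_cases j <;> simp [upp], sym2_mul, sym2_mul]
    have hmem := hcomm g u (by rw [hu', hy]; exact point_comm x _ _)
    obtain ⟨i, hi : (g * z * g⁻¹) ^ i = u⟩ := (mem_powers_iff_mem_zpowers).mpr hmem
    have h1 : point x ((i : k) * ν) = point x 1 := by rw [← point_pow, ← hy, ← map_pow, hi, hu']
    have h3 : (i : k) * ν = 1 := by
      have h4 := congrArg (fun t => sym2 (low (-x)) * t * sym2 (low x)) h1
      simp only [point, ← sym2_mul] at h4
      have e : ∀ t : k, low (-x) * (low x * upp t * low (-x)) * low x = upp t := fun t => by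
        rw [← mul_assoc, ← mul_assoc, low_mul, neg_add_cancel, low_zero, one_mul, mul_assoc,
          low_mul, neg_add_cancel, low_zero, mul_one]
      rw [e, e] at h4
      simpa [sym2, upp] using congrFun (congrFun h4 1) 2
    refine ⟨((i : ZMod p))⁻¹, ?_⟩
    have hne : φ (i : ZMod p) ≠ 0 := by rw [map_natCast]; exact left_ne_zero_of_mul_eq_one h3
    show φ _ = ν
    rw [map_inv₀, map_natCast]
    exact inv_eq_of_mul_eq_one_right h3
  by_cases hall : ∀ g : G, g ∈ H
  · rw [← Subgroup.index, show H = ⊤ from (Subgroup.eq_top_iff' H).mpr hall, Subgroup.index_top]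
    omega
  push Not at hall
  obtain ⟨g₀, hg₀⟩ := hall
  obtain ⟨x₀, ν₀, hν₀, hy₀⟩ := hpoint g₀ hg₀
  have hin_mul : ∀ a b : k, InPrime p a → InPrime p b → InPrime p (a * b) := by
    rintro _ _ ⟨a, rfl⟩ ⟨b, rfl⟩; exact ⟨a * b, map_mul _ _ _⟩
  have hin_inv : ∀ a : k, InPrime p a → InPrime p a⁻¹ := by
    rintro _ ⟨a, rfl⟩; exact ⟨a⁻¹, map_inv₀ _ _⟩
  -- the square of a difference of two points
  have hsq : ∀ (g : G) (x ν : k), ν ≠ 0 → R (g * z * g⁻¹) = point x ν → x - x₀ ≠ 0 →
      InPrime p ((x - x₀) ^ 2) := by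
    intro g x ν hν hy hd
    set d := x - x₀ with hddef
    obtain ⟨F, -, hF⟩ := exists_realize hp5 R hν₀ hz hy₀
    obtain ⟨u, hu⟩ := hF !![0, 1; -1, 0] (by simp [Matrix.det_fin_two])
    obtain ⟨u', hu'⟩ := hF !![0, -1; 1, 0] (by simp [Matrix.det_fin_two])
    rw [show (!![0, 1; -1, 0] : Matrix (Fin 2) (Fin 2) F).map F.subtype = !![0, 1; -1, 0] by
        ext i j; fin_cases i <;> fin_cases j <;> simp] at hu
    rw [show (!![0, -1; 1, 0] : Matrix (Fin 2) (Fin 2) F).map F.subtype = !![0, -1; 1, 0] by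
        ext i j; fin_cases i <;> fin_cases j <;> simp] at hu'
    have huu : u * u' = 1 := hinj (by
      rw [map_mul, hu, hu', map_one, ← sym2_one, ← sym2_mul, ← sym2_mul, ← sym2_mul, ← sym2_mul,
        ← sym2_mul]
      congr 1
      ext i j
      fin_cases i <;> fin_cases j <;> simp [low, Matrix.mul_apply, Fin.sum_univ_two] <;> ring)
    have key : R (u * g * z * (u * g)⁻¹) = point (x₀ - d⁻¹) (ν * d ^ 2) := by
      rw [show u * g * z * (u * g)⁻¹ = u * (g * z * g⁻¹) * u' by
        rw [eq_inv_of_mul_eq_one_right huu]; group, map_mul, map_mul, hy, hu, hu', point, point,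
        ← sym2_mul, ← sym2_mul, ← sym2_mul, ← sym2_mul, ← sym2_mul, ← sym2_mul]
      congr 1
      have hx : x = x₀ + d := by rw [hddef]; ring
      rw [hx]
      ext i j
      fin_cases i <;> fin_cases j <;>
        simp [low, upp, Matrix.mul_apply, Fin.sum_univ_two] <;> field_simp <;> ring
    have h1 := hprime (u * g) _ _ (mul_ne_zero hν (pow_ne_zero _ hd)) key
    have h3 := hin_mul _ _ (hin_inv _ (hprime g x ν hν hy)) h1
    rwa [← mul_assoc, inv_mul_cancel₀ hν, one_mul] at h3
  have hdiff : ∀ (g : G) (x ν : k), ν ≠ 0 → R (g * z * g⁻¹) = point x ν →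
      InPrime p (x - x₀) := by
    intro g x ν hν hy
    by_cases hd : x - x₀ = 0
    · exact ⟨0, by rw [map_zero, hd]⟩
    have hy' : R (z * g * z * (z * g)⁻¹) = point (x + 1) ν := by
      have e : R z⁻¹ = sym2 (low (-1)) := by
        calc R z⁻¹ = R z⁻¹ * (sym2 (low 1) * sym2 (low (-1))) := by rw [sym2_low_cancel, mul_one]
          _ = sym2 (low (-1)) := by
            rw [← mul_assoc, sym2_low_one, ← hz, ← map_mul, inv_mul_cancel, map_one, one_mul]
      rw [show z * g * z * (z * g)⁻¹ = z * (g * z * g⁻¹) * z⁻¹ by group, map_mul, map_mul, hy, e,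
        hz, ← sym2_low_one, point, point, ← sym2_mul, ← sym2_mul]
      congr 1
      rw [← mul_assoc, ← mul_assoc, low_mul, mul_assoc, low_mul, add_comm 1 x,
        show -x + -1 = -(x + 1) by ring]
    by_cases hd1 : x + 1 - x₀ = 0
    · exact ⟨-1, by rw [map_neg, map_one]; linear_combination -hd1⟩
    obtain ⟨a, ha⟩ := hsq g x ν hν hy hd
    obtain ⟨b, hb⟩ := hsq (z * g) (x + 1) ν hν hy' hd1
    refine ⟨(b - a - 1) / 2, ?_⟩
    rw [map_div₀, map_sub, map_sub, ha, hb, map_one, map_ofNat]
    field_simp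
    ring
  -- the injection of the cosets
  have hH : ∀ g g' : G, g ∉ H → g' ∉ H → ∀ x ν ν' : k, R (g * z * g⁻¹) = point x ν →
      R (g' * z * g'⁻¹) = point x ν' → (g : G ⧸ H) = g' := by
    intro g g' _ _ x ν ν' hy hy'
    rw [QuotientGroup.eq]
    have h := hcomm g (g' * z * g'⁻¹) (by rw [hy, hy']; exact point_comm x _ _)
    refine hN _ ?_
    obtain ⟨i, hi⟩ := Subgroup.mem_zpowers_iff.mp h
    refine ⟨i, ?_⟩
    show z ^ i = _
    have e := congrArg (fun t => g⁻¹ * t * g) hi
    simp only [← MulAut.conj_apply, ← map_zpow] at e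
    simp [mul_assoc] at e ⊢
    exact e
  choose xf νf hνf hyf using hpoint
  let Fn : G ⧸ H → Option (ZMod p) := fun q =>
    if h : q.out ∈ H then none else some (hdiff q.out _ _ (hνf _ h) (hyf _ h)).choose
  have hFn : Function.Injective Fn := by
    intro q q' hqq
    simp only [Fn] at hqq
    by_cases h : q.out ∈ H <;> by_cases h' : q'.out ∈ H
    · rw [← q.out_eq', ← q'.out_eq', QuotientGroup.eq]
      exact H.mul_mem (H.inv_mem h) h'
    · simp [h, h'] at hqq
    · simp [h, h'] at hqq
    · rw [dif_neg h, dif_neg h', Option.some.injEq] at hqq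
      have hx : xf q.out h = xf q'.out h' := by
        have e := (hdiff q.out _ _ (hνf _ h) (hyf _ h)).choose_spec
        have e' := (hdiff q'.out _ _ (hνf _ h') (hyf _ h')).choose_spec
        rw [hqq, e'] at e
        linear_combination -e
      rw [← q.out_eq', ← q'.out_eq']
      exact hH _ _ h h' _ _ _ (hyf _ h) (by rw [hyf _ h', hx])
  calc Nat.card (G ⧸ H) ≤ Nat.card (Option (ZMod p)) := Nat.card_le_card_of_injective Fn hFn
    _ = p + 1 := by rw [Nat.card_eq_fintype_card, Fintype.card_option, ZMod.card]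

end Cfsg.Agent.SmallGroups.Mod
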