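import Cfsg.Agent.Lib.SmallGroups.Mod.Bridge
import Cfsg.Agent.Lib.SmallGroups.Few.Data
import Cfsg.Agent.Lib.SmallGroups.Few.Main
import Cfsg.Agent.Lib.SmallGroups.SelfCent.Count
import Cfsg.Agent.Lib.SmallGroups.SelfCent.TwoDeg
import Cfsg.Agent.Lib.BlocksCore.CyclicCount
import Mathlib.Algebra.CharP.Lemmas

/-!
# A prime `p` with a cofactor `q ^ b * g₀`, `g₀ < p - 1`

The principal block then has exceptional degree `B ∣ g₀`, hence `C(z) = ⟨z⟩`; either `B ≤ (p + 1) / 2`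
and the adjoint module counts the Sylow subgroups, or `q = 2` and the involution values do.
-/

set_option autoImplicit false

open scoped ComplexConjugate

namespace Cfsg.Agent.SmallGroups.Mod

open SelfCent SelfCent.Setup BlocksCore

variable {G : Type*} [Group G] [Fintype G] {p : ℕ} [hp : Fact p.Prime]

/-- An element of order `q` whose class size is prime to `q`. -/
theorem exists_central_elt (q : ℕ) [Fact q.Prime] (hq : q ∣ Nat.card G) :
    ∃ g : G, orderOf g = q ∧ ¬ q ∣ (Subgroup.centralizer ({g} : Set G)).index := by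
  obtain ⟨T⟩ := (inferInstance : Nonempty (Sylow q G))
  have hT := T.dvd_card_of_dvd_card hq
  haveI : Nontrivial (T : Subgroup G) := Finite.one_lt_card_iff_nontrivial.mp
    (lt_of_lt_of_le (Fact.out : q.Prime).one_lt (Nat.le_of_dvd Nat.card_pos hT))
  have hc := T.2.center_nontrivial
  obtain ⟨y, hy⟩ := exists_prime_orderOf_dvd_card' (G := Subgroup.center (T : Subgroup G)) q (by
    obtain ⟨n, hn, hn'⟩ := (T.2.to_subgroup _).nontrivial_iff_card.mp hc
    rw [hn']; exact dvd_pow_self q hn.ne')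
  refine ⟨((y : (T : Subgroup G)) : G), by rw [Subgroup.orderOf_coe, Subgroup.orderOf_coe, hy],
    fun h => ?_⟩
  refine T.not_dvd_index (h.trans (Subgroup.index_dvd_of_le fun g hg => ?_))
  rw [Subgroup.mem_centralizer_singleton_iff]
  exact congrArg Subtype.val (Subgroup.mem_center_iff.mp y.2 ⟨g, hg⟩)

/-- `(χ g) ^ q ≡ χ 1` modulo `q` for an element of prime order `q`. -/
theorem apply_pow_congr (q : ℕ) [Fact q.Prime] (χ : Cfsg.IrrCharacter G) {g : G}
    (hg : g ^ q = 1) :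
    ∃ X : ℂ, IsIntegral ℤ X ∧ ((χ : G → ℂ) g) ^ q = (deg χ : ℂ) + (q : ℂ) * X := by
  classical
  obtain ⟨m, ρ, hρ, hχρ⟩ := χ.2
  obtain ⟨b, ω, hω, -, -, hk⟩ := CharCore.exists_eigenvalues ρ g
  have hωq : ∀ i, ω i ^ q = 1 := fun i => by
    obtain ⟨c, hc⟩ := orderOf_dvd_of_pow_eq_one hg
    rw [hc, pow_mul, hω i, one_pow]
  let v : Fin _ → Cfsg.AlgInt := fun i =>
    ⟨ω i, IsIntegral.of_pow (Fact.out : q.Prime).pos (by rw [hωq i]; exact isIntegral_one)⟩
  have key : ∀ S : Finset (Fin (Module.finrank ℂ (Fin m → ℂ))),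
      ∃ X : Cfsg.AlgInt, (∑ i ∈ S, v i) ^ q = ∑ i ∈ S, v i ^ q + q * X := by
    intro S
    induction S using Finset.induction with
    | empty => exact ⟨0, by simp [(Fact.out : q.Prime).ne_zero]⟩
    | @insert i S hi ih =>
      obtain ⟨X, hX⟩ := ih
      obtain ⟨r, hr⟩ := exists_add_pow_prime_eq (Fact.out : q.Prime) (v i) (∑ j ∈ S, v j)
      refine ⟨X + (v i) * (∑ j ∈ S, v j) * r, ?_⟩
      rw [Finset.sum_insert hi, Finset.sum_insert hi, hr, hX]
      ring
  obtain ⟨X, hX⟩ := key Finset.univ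
  refine ⟨(X : ℂ), X.2, ?_⟩
  have h := congrArg (fun a : Cfsg.AlgInt => (a : ℂ)) hX
  simp only [AddMemClass.coe_add, MulMemClass.coe_mul, SubmonoidClass.coe_pow,
    AddSubmonoidClass.coe_finsetSum, SubringClass.coe_natCast] at h
  have h1 := hk 1
  simp only [pow_one] at h1
  rw [← hχρ, h1]
  simp only [v, hωq, Finset.sum_const, Finset.card_univ, Fintype.card_fin, nsmul_one] at h
  rw [h]
  congr 1
  have hd := (deg_spec χ).2.2
  rw [← hχρ, Representation.char_one] at hd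
  exact hd

omit hp in
/-- If `q` divides the degree but not the class size, it divides the value. -/
theorem dvd_apply {q : ℕ} (hq : q.Prime) (χ : Cfsg.IrrCharacter G) {g : G}
    (hd : q ∣ deg χ) (hC : ¬ q ∣ (Subgroup.centralizer ({g} : Set G)).index) :
    ∃ X : ℂ, IsIntegral ℤ X ∧ (χ : G → ℂ) g = (q : ℂ) * X := by
  set C := (Subgroup.centralizer ({g} : Set G)).index
  obtain ⟨d', hd'⟩ := hd
  have h1 := BlocksCore.isIntegral_centralChar χ g
  rw [Cfsg.centralChar, (deg_spec χ).2.2] at h1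
  have h2 : IsIntegral ℤ ((χ : G → ℂ) g) := by
    obtain ⟨m, ρ, hρ, hχρ⟩ := χ.2
    rw [← hχρ]; exact CharCore.isIntegral_character ρ g
  have hint : ∀ k : ℤ, IsIntegral ℤ ((k : ℤ) : ℂ) := fun k => by
    have h := isIntegral_algebraMap (R := ℤ) (A := ℂ) (x := k)
    rwa [eq_intCast] at h
  obtain ⟨u, v, huv⟩ : IsCoprime (C : ℤ) (q : ℤ) :=
    Int.isCoprime_iff_nat_coprime.mpr (by simpa using (hq.coprime_iff_not_dvd.mpr hC).symm)
  refine ⟨(u : ℂ) * (d' : ℂ) * ((C : ℂ) * (χ : G → ℂ) g / (deg χ : ℂ)) + (v : ℂ) * (χ : G → ℂ) g,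
    (((hint u).mul (by simpa using hint (d' : ℤ))).mul h1).add ((hint v).mul h2), ?_⟩
  have hq0 : (q : ℂ) ≠ 0 := Nat.cast_ne_zero.mpr hq.ne_zero
  have hd0 : (d' : ℂ) ≠ 0 := by
    intro h
    have := (deg_spec χ).1
    rw [hd', Nat.cast_eq_zero.mp h, mul_zero] at this
    omega
  have huv' : (u : ℂ) * (C : ℂ) + (v : ℂ) * (q : ℂ) = 1 := by exact_mod_cast huv
  rw [hd']
  push_cast
  field_simp
  linear_combination -(χ : G → ℂ) g * huv'

omit hp in
/-- A rational integer divisible by `q` in the algebraic integers is divisible by `q`. -/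
theorem int_dvd_of_eq {q : ℕ} (hq : q ≠ 0) {n : ℤ} {X : ℂ} (hX : IsIntegral ℤ X)
    (h : (n : ℂ) = (q : ℂ) * X) : (q : ℤ) ∣ n := by
  have hq0 : (q : ℚ) ≠ 0 := Nat.cast_ne_zero.mpr hq
  have h1 : X = algebraMap ℚ ℂ ((n : ℚ) / (q : ℚ)) := by
    have hqC : (q : ℂ) ≠ 0 := Nat.cast_ne_zero.mpr hq
    rw [map_div₀, map_intCast, map_natCast, h]
    field_simp
  rw [h1, isIntegral_algebraMap_iff (RingHom.injective _)] at hX
  obtain ⟨k, hk⟩ := IsIntegrallyClosed.algebraMap_eq_of_integral hX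
  refine ⟨k, ?_⟩
  rw [eq_comm, div_eq_iff hq0] at hk
  apply Int.cast_injective (α := ℚ)
  rw [hk, eq_intCast]; push_cast; ring

/-- An exceptional degree smaller than `p` forces `C(z) = ⟨z⟩`. -/
theorem K_eq_bot_of_small [IsSimpleGroup G] (s : Setup G p) [Fintype s.Orb]
    [DecidableEq (Cfsg.IrrCharacter G)] (D : s.Data) (hd : D.d = 0) (hB : D.b < p)
    (hmod : (p : ℤ) ∣ (D.b : ℤ) - (Nat.card s.auto : ℤ) * D.eps) : s.K = ⊥ := by
  classical
  obtain ⟨o⟩ : Nonempty s.Orb := inferInstance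
  obtain ⟨n, hn, hle, hn'⟩ := s.exists_fix (D.f o)
  rw [D.deg_f] at hle
  rw [D.sum_vec, if_pos ⟨o, rfl⟩, D.c_f, hd, mul_zero, zero_add] at hn'
  have hnB : n = D.b := by
    have h1 : (p : ℤ) ∣ (D.b : ℤ) - (n : ℤ) := by
      rw [show (D.b : ℤ) - (n : ℤ) = ((D.b : ℤ) - (Nat.card s.auto : ℤ) * D.eps) +
        ((Nat.card s.auto : ℤ) * D.eps - (n : ℤ)) by ring]
      exact dvd_add hmod hn'.dvd
    obtain ⟨c, hc⟩ := h1
    have hp0 : (0 : ℤ) < p := by exact_mod_cast hp.out.pos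
    have hc0 : c = 0 := by
      rcases lt_trichotomy c 0 with h | h | h
      · have : (p : ℤ) * c ≤ (p : ℤ) * (-1) := mul_le_mul_of_nonneg_left (by omega) hp0.le
        omega
      · exact h
      · have : (p : ℤ) * 1 ≤ (p : ℤ) * c := mul_le_mul_of_nonneg_left (by omega) hp0.le
        omega
    rw [hc0, mul_zero] at hc
    omega
  by_contra hK
  obtain ⟨w, hw, hw1⟩ := (s.K.bot_or_exists_ne_one).resolve_left hK
  refine SelfCent.value_ne_deg (D.triv_ne o) hw1 ?_
  have hle' : ∀ g : G, ‖(D.f o : G → ℂ) g‖ ≤ (D.b : ℝ) := fun g => by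
    have := CharCore.IsCharacter.norm_apply_le (CharCore.irr_isCharacter (D.f o)) g
    simpa [(deg_spec _).2.2, D.deg_f] using this
  have hsum : ∑ v ∈ s.kset, (D.f o : G → ℂ) v = (s.kset.card : ℂ) * (D.b : ℂ) := by
    rw [← hnB, ← hn, Setup.phi, ← mul_assoc, mul_inv_cancel₀ s.card_kset_ne_zero, one_mul]
    simp [s.zp_zero]
  have hz : ∑ v ∈ s.kset, ((D.b : ℝ) - ((D.f o : G → ℂ) v).re) = 0 := by
    rw [Finset.sum_sub_distrib, Finset.sum_const, nsmul_eq_mul, ← Complex.re_sum, hsum]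
    simp
  have h3 := (Finset.sum_eq_zero_iff_of_nonneg fun v _ => by
    linarith [Complex.re_le_norm ((D.f o : G → ℂ) v), hle' v]).mp hz w (s.mem_kset.mpr hw)
  have h4 := hle' w
  have hre : ((D.f o : G → ℂ) w).re = (D.b : ℝ) := by linarith
  have h5 : ((D.f o : G → ℂ) w).im = 0 := by
    have h6 : ‖(D.f o : G → ℂ) w‖ ^ 2 ≤ (D.b : ℝ) ^ 2 := pow_le_pow_left₀ (norm_nonneg _) h4 2
    rw [Complex.sq_norm, Complex.normSq_apply, hre] at h6
    nlinarith [mul_self_nonneg ((D.f o : G → ℂ) w).im]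
  rw [D.deg_f]
  exact Complex.ext (by simpa using hre) (by simpa using h5)

/-- The case of two elements in the automizer. -/
theorem two_case [IsSimpleGroup G] (hne : ¬ IsMulCommutative G) (s : Setup G p) (hK : s.K = ⊥)
    [Fintype s.Orb] [DecidableEq (Cfsg.IrrCharacter G)] (D : s.Data) (hd : D.d = 0)
    (heps : D.eps = -1) (he : Nat.card s.auto = 2) (hp5 : 5 ≤ p) (hBp : D.b + 2 = p)
    (χ : Cfsg.IrrCharacter G) (hχt : χ ≠ SelfCent.Setup.triv) (hχf : ∀ o, χ ≠ D.f o)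
    (hc : D.c χ = 1) (hdχ : deg χ + 1 = p) (m : ℕ) (hm : p - 1 = 2 ^ m)
    (hother : ∀ ψ, ψ ≠ SelfCent.Setup.triv → ψ ≠ χ → D.c ψ = 0) {b : ℕ}
    (hG : Nat.card G = p * 2 ^ b * D.b) (hmb : m ≤ b) : b = m := by
  classical
  haveI : Fact (Nat.Prime 2) := ⟨Nat.prime_two⟩
  have hp2 : p ≠ 2 := by omega
  have hBodd : ¬ 2 ∣ D.b := by
    have := hp.out.eq_two_or_odd
    omega
  have hm1 : 1 ≤ m := by
    rcases Nat.eq_zero_or_pos m with h | h
    · rw [h, pow_zero] at hm; omega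
    · exact h
  have h2G : 2 ∣ Nat.card G := by
    rw [hG]
    exact dvd_mul_of_dvd_left (dvd_mul_of_dvd_right (dvd_pow_self 2 (by omega)) _) _
  obtain ⟨y, hy, hCy⟩ := exists_central_elt (G := G) 2 h2G
  set C := (Subgroup.centralizer ({y} : Set G)).index with hCdef
  have hy2 : y ^ 2 = 1 := orderOf_dvd_iff_pow_eq_one.mp (dvd_of_eq hy)
  have hy1 : y ≠ 1 := fun h => by rw [h, orderOf_one] at hy; omega
  obtain ⟨S, hS, hSl, hSu, -⟩ := SelfCent.exists_int_value_four hne χ hy2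
  have hyne : ∀ k : ZMod p, k ≠ 0 → ∀ w ∈ s.K, ¬ IsConj y (s.zp k * w) := by
    intro k hk w hw hc'
    rw [hK, Subgroup.mem_bot] at hw
    rw [hw, mul_one] at hc'
    obtain ⟨g, hg⟩ := isConj_iff.mp hc'
    have : orderOf (s.zp k) = orderOf y := by
      rw [← hg]; exact orderOf_injective (MulAut.conj g).toMonoidHom (MulEquiv.injective _) y
    rw [BlocksCore.CyclicBlock.orderOf_zp s hk, hy] at this
    exact hp2 this
  have hsplit : ∀ F : Cfsg.IrrCharacter G → ℂ,
      (∀ ψ, ψ ≠ SelfCent.Setup.triv → ψ ≠ χ → (∀ o, ψ ≠ D.f o) → F ψ = 0) →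
      ∑ ψ, F ψ = F SelfCent.Setup.triv + F χ + ∑ o, F (D.f o) := by
    intro F hF
    have hdisj : Disjoint ({(SelfCent.Setup.triv : Cfsg.IrrCharacter G), χ} : Finset _)
        (Finset.univ.image D.f) := by
      rw [Finset.disjoint_left]
      intro ψ hψ hψ'
      obtain ⟨o, -, rfl⟩ := Finset.mem_image.mp hψ'
      simp [D.triv_ne o, (hχf o).symm] at hψ
    rw [← Finset.sum_subset (Finset.subset_univ
        ({(SelfCent.Setup.triv : Cfsg.IrrCharacter G), χ} ∪ Finset.univ.image D.f)) (fun ψ _ hψ => by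
      simp only [Finset.mem_union, Finset.mem_insert, Finset.mem_singleton, Finset.mem_image,
        Finset.mem_univ, true_and, not_or, not_exists] at hψ
      exact hF ψ hψ.1.1 hψ.1.2 (fun o h => hψ.2 o h.symm)),
      Finset.sum_union hdisj, Finset.sum_pair hχt.symm,
      Finset.sum_image fun a _ b _ h => D.inj h]
  have hf : ∀ o, (D.f o : G → ℂ) y = (S : ℂ) - 1 := by
    intro o
    have h := D.value_eq hyne o
    rw [hsplit _ (fun ψ h1 h2 _ => by rw [hother ψ h1 h2]; simp), D.c_triv] at h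
    simp only [hc, D.c_f, hd, hS, heps, SelfCent.Setup.triv, Pi.one_apply, Int.cast_neg,
      Int.cast_one, Int.cast_zero, mul_zero, Finset.sum_const_zero, add_zero] at h
    linear_combination -h
  have hzval : ∀ ψ : Cfsg.IrrCharacter G, (∀ o, ψ ≠ D.f o) →
      (ψ : G → ℂ) s.z = -(D.c ψ : ℂ) := by
    intro ψ hψ
    have h := s.phi_of_const ψ (D.c ψ) (fun o => by rw [D.vec_eq, if_neg (hψ o), add_zero])
      (one_ne_zero (α := ZMod p))
    have hk : s.kset = {1} := by ext w; simp [s.mem_kset, hK]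
    simpa [Setup.phi, hk, s.zp_one] using h
  have hzero : ∀ ψ : Cfsg.IrrCharacter G, ψ ≠ SelfCent.Setup.triv → ψ ≠ χ → (∀ o, ψ ≠ D.f o) →
      (ψ : G → ℂ) s.z = 0 := fun ψ h1 h2 h3 => by
    rw [hzval ψ h3, hother ψ h1 h2]; simp
  have hza : (χ : G → ℂ) s.z = -1 := by rw [hzval χ hχf, hc]; simp
  have hdC : ∀ ψ : Cfsg.IrrCharacter G, (ψ : G → ℂ) 1 = (deg ψ : ℂ) := fun ψ => (deg_spec ψ).2.2
  have hB0 : (D.b : ℂ) ≠ 0 := by
    have : D.b ≠ 0 := by omega
    exact_mod_cast this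
  have hdC' : (deg χ : ℂ) = (D.b : ℂ) + 1 := by
    have : deg χ = D.b + 1 := by omega
    exact_mod_cast this
  have hd0 : (deg χ : ℂ) ≠ 0 := by exact_mod_cast (show deg χ ≠ 0 by omega)
  have hzne : ¬ IsConj s.z 1 := by
    intro h
    have h1 := isConj_one_left.mp h
    exact hp.out.one_lt.ne' (by rw [← s.orderOf_z, h1, orderOf_one])
  have hexz : ∑ o, conj ((D.f o : G → ℂ) s.z) = 1 := by
    have h := CharDeep.sum_irr_mul_conj (1 : G) s.z
    rw [BlocksCore.classInd_apply_of_not_isConj (fun h => hzne h.symm), mul_zero] at h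
    have h' := (mul_eq_zero.mp h).resolve_left (CharDeep.class_card_ne_zero 1)
    rw [hsplit _ (fun ψ h1 h2 h3 => by simp [hzero ψ h1 h2 h3]), hza,
      Finset.sum_congr rfl (g := fun o => (D.b : ℂ) * conj ((D.f o : G → ℂ) s.z))
        (fun o _ => by rw [hdC, D.deg_f]), ← Finset.mul_sum, hdC χ] at h'
    simp only [SelfCent.Setup.triv, Pi.one_apply, map_one, mul_one, map_neg] at h'
    apply mul_left_cancel₀ hB0
    linear_combination h' + hdC'
  set N := Nat.card {q : G × G // IsConj y q.1 ∧ IsConj y q.2 ∧ q.1 * q.2 = s.z} with hN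
  have hcount := SelfCent.card_pairs_mul_card y s.z
  rw [← hN, ← hCdef, hsplit _ (fun ψ h1 h2 h3 => by simp [hzero ψ h1 h2 h3]), hza, hS,
    Finset.sum_congr rfl (g := fun o => ((S : ℂ) - 1) ^ 2 / (D.b : ℂ) *
      conj ((D.f o : G → ℂ) s.z)) (fun o _ => by rw [hf, hdC, D.deg_f]), ← Finset.mul_sum, hexz,
    hdC χ] at hcount
  simp only [SelfCent.Setup.triv, Pi.one_apply, map_one, mul_one, one_pow, div_one,
    map_neg] at hcount
  have key : (N : ℂ) * (Nat.card G : ℂ) * ((deg χ : ℂ) * (D.b : ℂ)) =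
      ((C : ℂ) * ((deg χ : ℂ) - (S : ℂ))) ^ 2 := by
    rw [hcount, hdC']
    have : (D.b : ℂ) + 1 ≠ 0 := hdC' ▸ hd0
    field_simp
    ring
  have keyN : (N : ℤ) * (Nat.card G : ℤ) * ((deg χ : ℤ) * (D.b : ℤ)) =
      ((C : ℤ) * ((deg χ : ℤ) - S)) ^ 2 := by exact_mod_cast key
  have hSd : S ≠ (deg χ : ℤ) := fun h => SelfCent.value_ne_deg hχt hy1 (by rw [hS, h]; simp)
  have hCpos : (C : ℤ) ≠ 0 := by
    exact_mod_cast (Subgroup.index_ne_zero_of_finite (H := Subgroup.centralizer ({y} : Set G)))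
  have hNp : N = p := by
    have hN0 : N ≠ 0 := by
      intro h
      rw [h, Nat.cast_zero, zero_mul, zero_mul, eq_comm, pow_eq_zero_iff two_ne_zero,
        mul_eq_zero] at keyN
      rcases keyN with h' | h'
      · exact hCpos h'
      · exact hSd (by linarith)
    obtain ⟨⟨⟨u, w⟩, hu, hw, huw⟩⟩ := (Nat.card_pos_iff.mp (Nat.pos_of_ne_zero hN0)).1
    have hinvol : ∀ {g : G}, IsConj y g → g * g = 1 := by
      intro g hg
      obtain ⟨c, rfl⟩ := isConj_iff.mp hg
      calc c * y * c⁻¹ * (c * y * c⁻¹) = c * (y * y) * c⁻¹ := by group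
        _ = 1 := by rw [← sq, hy2, mul_one, mul_inv_cancel]
    simp only at huw hu hw
    have huu := hinvol hu
    have hww := hinvol hw
    have hz : u * s.z * u⁻¹ = s.zp (-1) := by
      rw [SelfCent.Setup.zp_neg, s.zp_one, ← huw, mul_inv_rev,
        inv_eq_of_mul_eq_one_right huu, inv_eq_of_mul_eq_one_right hww, ← mul_assoc u, huu, one_mul]
    have hz' : ∀ k : ZMod p, u * s.zp k * u⁻¹ = s.zp (-k) := fun k => by
      have h := s.conj_zp_mul (j := 1) (k := -1) (g := u) (by rw [s.zp_one]; exact hz) k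
      simpa using h
    have := s.card_pairs hK hp2 (x := u) (by rw [sq]; exact huu) hz'
    have hc1 : ∀ g, IsConj y g ↔ IsConj u g :=
      fun g => ⟨fun h => hu.symm.trans h, fun h => hu.trans h⟩
    exact (hN.trans (Nat.card_congr (Equiv.subtypeEquivRight fun q => by rw [hc1, hc1]))).trans
      this
  -- the class size divides `p B`
  have hCdvd : C ∣ p * D.b := by
    have h1 : C ∣ Nat.card G := Subgroup.index_dvd_card _
    rw [hG, show p * 2 ^ b * D.b = 2 ^ b * (p * D.b) by ring] at h1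
    exact (Nat.Coprime.pow_right b ((Nat.prime_two.coprime_iff_not_dvd.mpr hCy).symm)).dvd_of_dvd_mul_left h1
  set T : ℕ := ((deg χ : ℤ) - S).natAbs with hT
  have hkeyT : (p * D.b) ^ 2 * 2 ^ (b + m) = C ^ 2 * T ^ 2 := by
    have h := congrArg Int.natAbs keyN
    simp only [Int.natAbs_mul, Int.natAbs_natCast, Int.natAbs_pow, hNp] at h
    rw [hG, show deg χ = 2 ^ m by omega] at h
    rw [hT, show deg χ = 2 ^ m by omega, pow_add, ← mul_pow C]
    rw [← h]; ring
  have hTpos : 0 < T := Int.natAbs_pos.mpr (sub_ne_zero.mpr hSd.symm)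
  have hTlt : T < 2 ^ (m + 1) := by
    rw [pow_succ, ← hm]
    obtain ⟨o⟩ : Nonempty s.Orb := inferInstance
    obtain ⟨u, hu, hul, -, -⟩ := SelfCent.exists_int_value_four hne (D.f o) hy2
    rw [hf o, D.deg_f] at *
    have hu' : u = S - 1 := by exact_mod_cast hu.symm
    omega
  have hupper : b + m < 2 * (m + 1) := by
    have h1 : C ^ 2 ≤ (p * D.b) ^ 2 :=
      Nat.pow_le_pow_left (Nat.le_of_dvd (Nat.mul_pos hp.out.pos (by omega)) hCdvd) 2
    have h2 : (p * D.b) ^ 2 * 2 ^ (b + m) ≤ (p * D.b) ^ 2 * T ^ 2 := hkeyT ▸ Nat.mul_le_mul_right _ h1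
    have h3 := Nat.le_of_mul_le_mul_left h2 (pow_pos (Nat.mul_pos hp.out.pos (by omega)) 2)
    have h4 : 2 ^ (b + m) < 2 ^ (2 * (m + 1)) := by
      rw [mul_comm 2 (m + 1), pow_mul]
      exact lt_of_le_of_lt h3 (Nat.pow_lt_pow_left hTlt two_ne_zero)
    exact (Nat.pow_lt_pow_iff_right one_lt_two).mp h4
  have heven : Even (b + m) := by
    have h := congrArg (fun x : ℕ => x.factorization 2) hkeyT
    have hpB : (p * D.b).factorization 2 = 0 := Nat.factorization_eq_zero_of_not_dvd (by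
      intro h'
      rcases Nat.prime_two.dvd_mul.mp h' with h'' | h''
      · exact hp2 ((Nat.prime_dvd_prime_iff_eq Nat.prime_two hp.out).mp h'').symm
      · exact hBodd h'')
    have hC0 : C ≠ 0 := fun h' => hCpos (by rw [h']; rfl)
    rw [Nat.factorization_mul (pow_ne_zero _ (Nat.mul_ne_zero hp.out.ne_zero (by omega)))
      (pow_ne_zero _ two_ne_zero), Nat.factorization_mul (pow_ne_zero _ hC0)
      (pow_ne_zero _ hTpos.ne'), Nat.factorization_pow, Nat.factorization_pow, Nat.factorization_pow,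
      Nat.factorization_pow, Finsupp.add_apply, Finsupp.add_apply, Finsupp.smul_apply,
      Finsupp.smul_apply, Finsupp.smul_apply, Finsupp.smul_apply, hpB,
      Nat.Prime.factorization_self Nat.prime_two] at h
    simp only [smul_eq_mul] at h
    exact ⟨C.factorization 2 + T.factorization 2, by omega⟩
  obtain ⟨j, hj⟩ := heven
  omega

end Cfsg.Agent.SmallGroups.Mod
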