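import Cfsg.Agent.Lib.SmallGroups.Mod.Reduce
import Cfsg.Agent.Lib.SmallGroups.Mod.Sylow
import Cfsg.Agent.Lib.SmallGroups.Few.Vanish

/-!
# A small faithful character bounds the number of Sylow subgroups
-/

set_option autoImplicit false

namespace Cfsg.Agent.SmallGroups.Mod

open SelfCent SelfCent.Setup

variable {G : Type*} [Group G] [Fintype G] {p : ℕ} [hp : Fact p.Prime]

/-- A character of degree at most `(p + 1) / 2` bounds the index of `N(⟨z⟩)` by `p + 1`. -/
theorem index_norm_le [IsSimpleGroup G] (s : Setup G p) (hK : s.K = ⊥) (hp5 : 5 ≤ p)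
    (he : 2 ≤ Nat.card s.auto) (hep : Nat.card s.auto < p) (χ : Cfsg.IrrCharacter G)
    (hχ : χ ≠ SelfCent.Setup.triv)
    (hd : 2 * deg χ ≤ p ∨ (2 * deg χ = p + 1 ∧ 4 ∣ p - 1 ∧ 7 ≤ p)) :
    Nat.card (G ⧸ s.norm) ≤ p + 1 := by
  classical
  have hp' : p.Prime := hp.out
  obtain ⟨φ, hsurj, hφ, hker⟩ := s.exists_act hK
  set e := Nat.card s.auto with hedef
  obtain ⟨a, ha⟩ := IsCyclic.exists_ofOrder_eq_natCard (α := s.auto)
  obtain ⟨g, hg⟩ := hsurj a
  have ha1 : ((a : (ZMod p)ˣ) : ZMod p) ≠ 1 := by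
    intro h
    have h1 : a = 1 := Subtype.ext (Units.ext h)
    rw [h1, orderOf_one] at ha
    omega
  have hgz : ∀ k : ZMod p, (g : G) * s.zp k * (g : G)⁻¹ =
      s.zp (((a : (ZMod p)ˣ) : ZMod p) * k) := fun k => by
    have h1 : (g : G) * s.zp 1 * (g : G)⁻¹ = s.zp ((a : (ZMod p)ˣ) : ZMod p) := by
      rw [s.zp_one, hφ g, hg]
    have := s.conj_zp_mul h1 k
    rwa [one_mul] at this
  -- `g ^ e = 1`
  have hge : (g : G) ^ e = 1 := by
    have h1 : φ (g ^ e) = 1 := by rw [map_pow, hg, hedef, pow_card_eq_one']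
    obtain ⟨i, hi⟩ := ((isOfFinOrder_of_finite s.z).mem_powers_iff_mem_zpowers).mpr ((hker _).mp h1)
    have hi' : (g : G) ^ e = s.zp (i : ZMod p) := by
      rw [s.zp_natCast, ← SubmonoidClass.coe_pow]; exact hi.symm
    have h2 := hgz (i : ZMod p)
    rw [← hi', ← pow_succ', pow_succ, mul_inv_cancel_right, hi'] at h2
    have h3 : ((i : ZMod p)) * (1 - ((a : (ZMod p)ˣ) : ZMod p)) = 0 := by
      linear_combination s.zp_injective h2
    rw [hi', (mul_eq_zero.mp h3).resolve_right (sub_ne_zero.mpr ha1.symm), s.zp_zero]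
  -- elements of order `p` of the normalizer
  have hnorm : ∀ g : G, g * s.z * g⁻¹ ∈ Subgroup.zpowers s.z → g ∈ s.norm := by
    intro g hg
    have key : (Subgroup.zpowers s.z).map (MulAut.conj g).toMonoidHom = Subgroup.zpowers s.z := by
      refine Subgroup.eq_of_le_of_card_ge ?_ ?_
      · rw [MonoidHom.map_zpowers, Subgroup.zpowers_le]
        exact hg
      · rw [Nat.card_congr ((Subgroup.zpowers s.z).equivMapOfInjective
          (MulAut.conj g).toMonoidHom (MulAut.conj g).injective).toEquiv]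
    rw [Subgroup.mem_normalizer_iff]
    intro w
    conv_rhs => rw [← key]
    exact ⟨fun hw => ⟨w, hw, rfl⟩, fun ⟨y, hy, hyw⟩ => (MulAut.conj g).injective hyw ▸ hy⟩
  have hTI : ∀ g : G, g⁻¹ * s.z * g ∈ s.norm → g ∈ s.norm := by
    intro g hg
    set x : s.norm := ⟨g⁻¹ * s.z * g, hg⟩ with hx
    have hxp : x ^ p = 1 := by
      apply Subtype.ext
      rw [SubmonoidClass.coe_pow, hx]
      show (g⁻¹ * s.z * g) ^ p = 1
      have : g⁻¹ * s.z * g = MulAut.conj g⁻¹ s.z := by simp
      rw [this, ← map_pow, orderOf_dvd_iff_pow_eq_one.mp (dvd_of_eq s.orderOf_z), map_one]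
    have h1 : φ x = 1 := by
      rw [← orderOf_eq_one_iff]
      have h2 : orderOf (φ x) ∣ p := orderOf_dvd_of_pow_eq_one (by rw [← map_pow, hxp, map_one])
      have h3 : orderOf (φ x) ≤ e := Nat.le_of_dvd Nat.card_pos (orderOf_dvd_natCard _)
      rcases (Nat.dvd_prime hp').mp h2 with h | h
      · exact h
      · omega
    have h4 : g⁻¹ * s.z * g ∈ Subgroup.zpowers s.z := (hker x).mp h1
    have := hnorm g⁻¹ (by rwa [inv_inv])
    simpa using inv_mem this
  obtain ⟨k, _, _, ρ, hinj⟩ := exists_reduction (G := G) p (q := e.minFac)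
    (Nat.minFac_prime (by omega)) (by
      have := Nat.minFac_le (show 0 < e by omega); omega) (by
      refine (Nat.minFac_dvd e).trans ?_
      have h1 := Subgroup.card_subgroup_dvd_card s.norm
      rw [s.card_normalizer] at h1
      exact (dvd_mul_right _ _).trans h1) χ hχ
  have hcast : (((((a : (ZMod p)ˣ) : ZMod p)).val : ℕ) : k) =
      ZMod.castHom (dvd_refl p) k ((a : (ZMod p)ˣ) : ZMod p) := by
    rw [← map_natCast (ZMod.castHom (dvd_refl p) k), ZMod.natCast_zmod_val]
  let f : Frob G p k :=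
    { z := s.z
      w := g
      A := ((a : (ZMod p)ˣ) : ZMod p).val
      e := e
      H := s.norm
      hz := s.orderOf_z
      he := by omega
      hep := hep
      hw := hge
      hwz := by
        have h := hgz 1
        rw [mul_one, s.zp_one] at h
        exact mul_inv_eq_iff_eq_mul.mp h
      ha := by
        rw [hcast]
        refine (orderOf_injective (ZMod.castHom (dvd_refl p) k).toMonoidHom
          (ZMod.castHom (dvd_refl p) k).injective _).trans ?_
        rw [orderOf_units, Subgroup.orderOf_coe, ha]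
      hzH := Subgroup.le_normalizer (Subgroup.mem_zpowers s.z)
      hgen := by
        intro h hh
        obtain ⟨j, hj⟩ : ∃ j : ℕ, a ^ j = φ ⟨h, hh⟩ := by
          have htop : Subgroup.zpowers a = ⊤ :=
            Subgroup.eq_top_of_card_eq _ (by rw [Nat.card_zpowers, ha])
          exact (mem_powers_iff_mem_zpowers).mpr (htop ▸ Subgroup.mem_top _)
        have h1 : φ (⟨h, hh⟩ * (g ^ j)⁻¹) = 1 := by
          rw [map_mul, map_inv, map_pow, hg, hj, mul_inv_cancel]
        obtain ⟨i, hi⟩ :=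
          ((isOfFinOrder_of_finite s.z).mem_powers_iff_mem_zpowers).mpr ((hker _).mp h1)
        refine ⟨i, j, ?_⟩
        rw [show s.z ^ i = h * ((g : G) ^ j)⁻¹ from hi, inv_mul_cancel_right]
      hTI := hTI }
  obtain ⟨R, hRz, hform⟩ := exists_adjoint f ρ hinj hd
  have hRinj : Function.Injective R := by
    rcases (inferInstance : R.ker.Normal).eq_bot_or_eq_top with h | h
    · intro x y hxy
      have h' : x * y⁻¹ ∈ R.ker := by
        rw [MonoidHom.mem_ker, map_mul, hxy, ← map_mul, mul_inv_cancel, map_one]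
      rw [h, Subgroup.mem_bot] at h'
      exact mul_inv_eq_one.mp h'
    · exfalso
      have h1 : R s.z = 1 := MonoidHom.mem_ker.mp (h ▸ Subgroup.mem_top s.z)
      rw [show R s.z = adA k from hRz] at h1
      simpa [adA] using congrFun (congrFun h1 1) 0
  refine index_le hp5 R hRinj s.orderOf_z hRz hform s.norm (fun u hu => ?_) hnorm
  obtain ⟨i, w, hw, rfl⟩ := s.exists_of_mem_cent (Subgroup.mem_centralizer_singleton_iff.mpr hu.eq)
  rw [hK, Subgroup.mem_bot] at hw
  rw [hw, mul_one]
  exact pow_mem (Subgroup.mem_zpowers _) _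

end Cfsg.Agent.SmallGroups.Mod
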