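import Cfsg.Agent.Lib.SmallGroups.Mod.Model
import Mathlib.RingTheory.Polynomial.Pochhammer
import Mathlib.LinearAlgebra.Vandermonde
import Mathlib.LinearAlgebra.Matrix.NonsingularInverse
import Mathlib.Algebra.Field.GeomSum
import Mathlib.Data.Nat.Choose.Sum
import Mathlib.Algebra.CharP.Lemmas
import Mathlib.Data.Nat.Prime.Factorial
import Mathlib.LinearAlgebra.Matrix.ToLinearEquiv

/-!
# A largest Jordan block stable under a torus element
-/

set_option autoImplicit false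

namespace Cfsg.Agent.SmallGroups.Mod

open Matrix Finset

variable {k : Type*} [Field k] {p : ℕ} [Fact p.Prime] [CharP k p] {d : Type*} [Fintype d]
  [DecidableEq d]

/-- The coefficient `c i` of `j ^ i` in `(1 + D) ^ j v`. -/
noncomputable def chain (ℓ : ℕ) (Z : Matrix d d k) (v : d → k) : Fin ℓ → d → k := fun r =>
  ∑ i : Fin ℓ, ((descPochhammer k (i : ℕ)).coeff r / ((Nat.factorial i : ℕ) : k)) •
    ((Z - 1) ^ (i : ℕ) *ᵥ v)

theorem factorial_ne_zero' {i : ℕ} (hi : i < p) : ((Nat.factorial i : ℕ) : k) ≠ 0 := fun e => by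
  have := (Nat.Prime.dvd_factorial (Fact.out : p.Prime)).mp ((CharP.cast_eq_zero_iff k p _).mp e)
  omega

theorem pow_mulVec_eq_sum {ℓ : ℕ} (hℓp : ℓ ≤ p) {Z : Matrix d d k} (hD : (Z - 1) ^ ℓ = 0)
    (v : d → k) (j : ℕ) :
    Z ^ j *ᵥ v = ∑ r : Fin ℓ, (j : k) ^ (r : ℕ) • chain ℓ Z v r := by
  classical
  have h1 : Z ^ j = ∑ i : Fin ℓ, ((j.choose (i : ℕ) : ℕ) : k) • (Z - 1) ^ (i : ℕ) := by
    conv_lhs => rw [show Z = (Z - 1) + 1 from (sub_add_cancel Z 1).symm,
      (Commute.one_right (Z - 1)).add_pow]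
    rw [Fin.sum_univ_eq_sum_range (fun i => ((j.choose i : ℕ) : k) • (Z - 1) ^ i) ℓ]
    refine (Finset.sum_congr rfl fun i _ => (show _ = ((j.choose i : ℕ) : k) • (Z - 1) ^ i by
      rw [one_pow, mul_one, ← nsmul_eq_mul', Nat.cast_smul_eq_nsmul])).trans ?_
    rcases le_total (j + 1) ℓ with h | h
    · refine Finset.sum_subset (Finset.range_subset_range.mpr h) fun i _ hi => ?_
      rw [Finset.mem_range, not_lt] at hi
      rw [Nat.choose_eq_zero_of_lt (by omega), Nat.cast_zero, zero_smul]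
    · refine (Finset.sum_subset (Finset.range_subset_range.mpr h) fun i _ hi => ?_).symm
      rw [Finset.mem_range, not_lt] at hi
      rw [pow_eq_zero_of_le hi hD, smul_zero]
  rw [h1, Matrix.sum_mulVec]
  simp only [chain, Finset.smul_sum, smul_smul, Matrix.smul_mulVec]
  rw [Finset.sum_comm]
  refine Finset.sum_congr rfl fun i _ => ?_
  rw [← Finset.sum_smul]
  congr 1
  have hi : (i : ℕ) < ℓ := i.2
  have h2 := descPochhammer_eval_eq_descFactorial k j (i : ℕ)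
  rw [Nat.descFactorial_eq_factorial_mul_choose, Nat.cast_mul] at h2
  rw [Polynomial.eval_eq_sum_range' (n := ℓ) (by rw [descPochhammer_natDegree]; exact hi)] at h2
  rw [← Fin.sum_univ_eq_sum_range
    (fun r => (descPochhammer k (i : ℕ)).coeff r * (j : k) ^ r) ℓ] at h2
  have hf := factorial_ne_zero' (k := k) (p := p) (i := (i : ℕ)) (by omega)
  apply mul_left_cancel₀ hf
  rw [← h2, Finset.mul_sum]
  refine Finset.sum_congr rfl fun r _ => ?_
  field_simp

omit [DecidableEq d] in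
theorem coeff_unique {ℓ : ℕ} (hℓp : ℓ ≤ p) {x y : Fin ℓ → d → k}
    (h : ∀ j : ℕ, ∑ r : Fin ℓ, (j : k) ^ (r : ℕ) • x r = ∑ r : Fin ℓ, (j : k) ^ (r : ℕ) • y r) :
    x = y := by
  funext r s
  have hdet : (vandermonde (fun j : Fin ℓ => ((j : ℕ) : k))).det ≠ 0 := by
    rw [det_vandermonde_ne_zero_iff]
    intro a b hab
    refine Fin.ext (CharP.natCast_injOn_Iio k p ?_ ?_ hab)
    · have := a.2; simp only [Set.mem_Iio]; omega
    · have := b.2; simp only [Set.mem_Iio]; omega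
  have h0 : vandermonde (fun j : Fin ℓ => ((j : ℕ) : k)) *ᵥ (fun r => x r s - y r s) = 0 := by
    funext j
    have hs := congrFun (h (j : ℕ)) s
    simp only [Finset.sum_apply, Pi.smul_apply, smul_eq_mul] at hs
    show ∑ r : Fin ℓ, ((j : ℕ) : k) ^ (r : ℕ) * (x r s - y r s) = 0
    simp only [mul_sub, Finset.sum_sub_distrib, hs, sub_self]
  have := Matrix.eq_zero_of_mulVec_eq_zero hdet h0
  exact sub_eq_zero.mp (congrFun this r)

/-- The chain as a `d × ℓ` matrix. -/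
noncomputable def chainMat (ℓ : ℕ) (Z : Matrix d d k) (v : d → k) : Matrix d (Fin ℓ) k :=
  of fun s r => chain ℓ Z v r s

theorem mul_chainMat {ℓ : ℕ} (hℓp : ℓ ≤ p) {Z : Matrix d d k} (hD : (Z - 1) ^ ℓ = 0) (v : d → k) :
    Z * chainMat ℓ Z v = chainMat ℓ Z v * blockA k ℓ := by
  have h : (fun i : Fin ℓ => Z *ᵥ chain ℓ Z v i) =
      fun i : Fin ℓ => ∑ m : Fin ℓ, ((m : ℕ).choose i : k) • chain ℓ Z v m := by
    refine coeff_unique hℓp fun j => ?_
    have hl : ∑ r : Fin ℓ, (j : k) ^ (r : ℕ) • Z *ᵥ chain ℓ Z v r = Z ^ (j + 1) *ᵥ v := by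
      rw [pow_succ', ← Matrix.mulVec_mulVec, pow_mulVec_eq_sum hℓp hD, Matrix.mulVec_sum]
      exact Finset.sum_congr rfl fun r _ => (Matrix.mulVec_smul _ _ _).symm
    rw [hl, pow_mulVec_eq_sum hℓp hD]
    simp only [Finset.smul_sum, smul_smul]
    rw [Finset.sum_comm]
    refine Finset.sum_congr rfl fun m _ => ?_
    rw [← Finset.sum_smul]
    congr 1
    push_cast
    rw [add_pow, Fin.sum_univ_eq_sum_range (fun i => (j : k) ^ i * ((m : ℕ).choose i : k)) ℓ]
    simp only [one_pow, mul_one]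
    refine Finset.sum_subset (Finset.range_subset_range.mpr m.2) fun i _ hi => ?_
    rw [Finset.mem_range, not_lt] at hi
    rw [Nat.choose_eq_zero_of_lt (by omega), Nat.cast_zero, mul_zero]
  ext s i
  have hi := congrFun (congrFun h i) s
  simp only [Finset.sum_apply, Pi.smul_apply, smul_eq_mul] at hi
  rw [Matrix.mul_apply, Matrix.mul_apply]
  simp only [chainMat, blockA, of_apply]
  calc ∑ t, Z s t * chain ℓ Z v i t = (Z *ᵥ chain ℓ Z v i) s := rfl
    _ = _ := hi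
    _ = _ := Finset.sum_congr rfl fun m _ => mul_comm _ _

theorem torus_mul_chainMat {ℓ : ℕ} (hℓp : ℓ ≤ p) {Z W : Matrix d d k} (hD : (Z - 1) ^ ℓ = 0)
    {A : ℕ} (hWZ : W * Z = Z ^ A * W) {v : d → k} {μ : k} (hv : W *ᵥ v = μ • v) :
    W * chainMat ℓ Z v = chainMat ℓ Z v * torus μ (A : k) := by
  have hpow : ∀ j : ℕ, W * Z ^ j = Z ^ (A * j) * W := by
    intro j
    induction j with
    | zero => simp
    | succ j ih => rw [pow_succ, ← mul_assoc, ih, mul_assoc, hWZ, ← mul_assoc, ← pow_add, mul_add,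
        mul_one]
  have h : (fun i : Fin ℓ => W *ᵥ chain ℓ Z v i) =
      fun i : Fin ℓ => (μ * (A : k) ^ (i : ℕ)) • chain ℓ Z v i := by
    refine coeff_unique hℓp fun j => ?_
    have hl : ∑ r : Fin ℓ, (j : k) ^ (r : ℕ) • W *ᵥ chain ℓ Z v r = W *ᵥ (Z ^ j *ᵥ v) := by
      rw [pow_mulVec_eq_sum hℓp hD, Matrix.mulVec_sum]
      exact Finset.sum_congr rfl fun r _ => (Matrix.mulVec_smul _ _ _).symm
    rw [hl, Matrix.mulVec_mulVec, hpow, ← Matrix.mulVec_mulVec, hv, Matrix.mulVec_smul,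
      pow_mulVec_eq_sum hℓp hD, Finset.smul_sum]
    refine Finset.sum_congr rfl fun r _ => ?_
    rw [smul_smul, smul_smul, Nat.cast_mul, mul_pow]
    ring_nf
  ext s i
  have hi := congrFun (congrFun h i) s
  rw [Matrix.mul_apply, torus, mul_diagonal]
  simp only [chainMat, of_apply]
  calc ∑ t, W s t * chain ℓ Z v i t = (W *ᵥ chain ℓ Z v i) s := rfl
    _ = _ := hi
    _ = _ := by rw [Pi.smul_apply, smul_eq_mul, mul_comm]

theorem coeff_descPochhammer_of_lt {i r : ℕ} (h : i < r) : (descPochhammer k i).coeff r = 0 :=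
  Polynomial.coeff_eq_zero_of_natDegree_lt (by rw [descPochhammer_natDegree]; exact h)

theorem coeff_descPochhammer_self (i : ℕ) : (descPochhammer k i).coeff i = 1 := by
  have h := monic_descPochhammer k i
  rw [Polynomial.Monic, Polynomial.leadingCoeff, descPochhammer_natDegree] at h
  exact h

/-- An eigenvector of `W` on which `Q` does not vanish. -/
theorem exists_eigen {e : ℕ} (he : 0 < e) (hep : e < p) {W : Matrix d d k} (hW : W ^ e = 1) {a : k}
    (ha : orderOf a = e) (Q : (d → k) →ₗ[k] (d → k)) {v₀ : d → k} (hQ : Q v₀ ≠ 0) :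
    ∃ (v : d → k) (μ : k), μ ≠ 0 ∧ W *ᵥ v = μ • v ∧ Q v ≠ 0 := by
  classical
  have hae : a ^ e = 1 := by rw [← ha]; exact pow_orderOf_eq_one a
  have ha0 : a ≠ 0 := fun h => by rw [h, zero_pow he.ne'] at hae; exact zero_ne_one hae
  let V : ℕ → d → k := fun j => ∑ i ∈ range e, ((a⁻¹) ^ (i * j)) • (W ^ i *ᵥ v₀)
  have hV : ∀ j, W *ᵥ V j = a ^ j • V j := by
    intro j
    simp only [V, Matrix.mulVec_sum, Finset.smul_sum, Matrix.mulVec_smul, Matrix.mulVec_mulVec,
      ← pow_succ', smul_smul]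
    let F : ℕ → d → k := fun i => (a ^ j * (a⁻¹) ^ (i * j)) • (W ^ i *ᵥ v₀)
    have e1 : ∀ i, ((a⁻¹) ^ (i * j)) • (W ^ (i + 1) *ᵥ v₀) = F (i + 1) := fun i => by
      simp only [F]
      congr 1
      rw [add_mul, one_mul, pow_add, mul_left_comm, ← mul_pow,
        mul_inv_cancel₀ ha0, one_pow, mul_one]
    rw [Finset.sum_congr rfl fun i _ => e1 i]
    show ∑ i ∈ range e, F (i + 1) = ∑ i ∈ range e, F i
    have h1 : F e = F 0 := by
      simp only [F]
      rw [hW, pow_zero, zero_mul, pow_zero, mul_comm e j, inv_pow, mul_comm j e, pow_mul, hae,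
        one_pow, inv_one]
    have h2 := Finset.sum_range_succ' F e
    rw [Finset.sum_range_succ, h1] at h2
    exact (add_right_cancel h2).symm
  by_contra hno
  push Not at hno
  have hz : ∀ j, Q (V j) = 0 := fun j => hno (V j) (a ^ j) (pow_ne_zero _ ha0) (hV j)
  have hsum : ∑ j ∈ range e, V j = (e : k) • v₀ := by
    simp only [V]
    rw [Finset.sum_comm, Finset.sum_eq_single 0]
    · simp only [zero_mul, pow_zero, one_smul, Matrix.one_mulVec, Finset.sum_const,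
        Finset.card_range, Nat.cast_smul_eq_nsmul]
    · intro i hi hi0
      rw [← Finset.sum_smul]
      have h1 : (a⁻¹) ^ i ≠ 1 := by
        rw [inv_pow, ne_eq, inv_eq_one]
        intro h2
        have := Nat.le_of_dvd (Nat.pos_of_ne_zero hi0) (ha ▸ orderOf_dvd_of_pow_eq_one h2)
        rw [Finset.mem_range] at hi
        omega
      have h3 : ∑ j ∈ range e, (a⁻¹) ^ (i * j) = 0 := by
        simp only [pow_mul]
        rw [geom_sum_eq h1, ← pow_mul, mul_comm, pow_mul, inv_pow a e, hae, inv_one, one_pow,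
          sub_self, zero_div]
      rw [h3, zero_smul]
    · intro h; simp [Finset.mem_range] at h; omega
  have h4 : (e : k) • Q v₀ = 0 := by
    rw [← map_smul, ← hsum, map_sum]
    exact Finset.sum_eq_zero fun j _ => hz j
  refine hQ ((smul_eq_zero.mp h4).resolve_left fun h5 => ?_)
  have := Nat.le_of_dvd he ((CharP.cast_eq_zero_iff k p e).mp h5)
  omega

/-- A torus-stable Jordan block of largest size with an equivariant left inverse. -/
theorem exists_block {ℓ : ℕ} (hℓ : 1 ≤ ℓ) (hℓp : ℓ ≤ p) {e : ℕ} (he : 0 < e) (hep : e < p)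
    {Z W : Matrix d d k} (hD : (Z - 1) ^ ℓ = 0) (hD' : (Z - 1) ^ (ℓ - 1) ≠ 0) (hW : W ^ e = 1)
    {A : ℕ} (hWZ : W * Z = Z ^ A * W) (ha : orderOf (A : k) = e) :
    ∃ (μ : k) (ι : Matrix d (Fin ℓ) k) (L : Matrix (Fin ℓ) d k), μ ≠ 0 ∧ L * ι = 1 ∧
      Z * ι = ι * blockA k ℓ ∧ L * Z = blockA k ℓ * L ∧
      W * ι = ι * torus μ (A : k) ∧ L * W = torus μ (A : k) * L := by
  classical
  obtain ⟨v₀, hv₀⟩ : ∃ v, (Z - 1) ^ (ℓ - 1) *ᵥ v ≠ 0 := by
    by_contra h
    push Not at h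
    exact hD' (Matrix.ext_of_mulVec_single fun i => by rw [h, Matrix.zero_mulVec])
  obtain ⟨v, μ, hμ, hv, hQv⟩ := exists_eigen he hep hW ha
    (Matrix.mulVecLin ((Z - 1) ^ (ℓ - 1))) (v₀ := v₀) hv₀
  rw [Matrix.mulVecLin_apply] at hQv
  -- the transposed data
  set W' := (W ^ (e - 1))ᵀ with hW'
  have hWW : W * W ^ (e - 1) = 1 := by rw [← pow_succ', Nat.sub_add_cancel he, hW]
  have hWW' : W ^ (e - 1) * W = 1 := by rw [← pow_succ, Nat.sub_add_cancel he, hW]
  have hWe : W' ^ e = 1 := by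
    rw [hW', ← Matrix.transpose_pow, ← pow_mul, mul_comm, pow_mul, hW, one_pow,
      Matrix.transpose_one]
  have hDT : (Zᵀ - 1) ^ ℓ = 0 := by
    rw [← Matrix.transpose_one, ← Matrix.transpose_sub, ← Matrix.transpose_pow, hD,
      Matrix.transpose_zero]
  have hWZ' : W' * Zᵀ = (Zᵀ) ^ A * W' := by
    rw [hW', ← Matrix.transpose_pow, ← Matrix.transpose_mul, ← Matrix.transpose_mul]
    congr 1
    calc Z * W ^ (e - 1) = W ^ (e - 1) * (W * Z) * W ^ (e - 1) := by
          rw [← mul_assoc, hWW', one_mul]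
      _ = W ^ (e - 1) * Z ^ A := by rw [hWZ, mul_assoc, mul_assoc, hWW, mul_one]
  let Q : (d → k) →ₗ[k] (d → k) :=
    { toFun := fun l s => (l ⬝ᵥ ((Z - 1) ^ (ℓ - 1) *ᵥ v))
      map_add' := fun a b => by funext s; simp [add_dotProduct]
      map_smul' := fun c a => by funext s; simp [smul_dotProduct] }
  obtain ⟨s₀, hs₀⟩ := Function.ne_iff.mp hQv
  obtain ⟨l, μ', hμ', hl, hQl⟩ := exists_eigen he hep hWe ha Q (v₀ := Pi.single s₀ 1) (by
    intro h
    have := congrFun h s₀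
    simp only [Q, LinearMap.coe_mk, AddHom.coe_mk, single_dotProduct, one_mul, Pi.zero_apply] at this
    exact hs₀ this)
  have hlv : l ⬝ᵥ ((Z - 1) ^ (ℓ - 1) *ᵥ v) ≠ 0 := fun h => hQl (funext fun s => h)
  set ι := chainMat ℓ Z v with hι
  set Ψ := (chainMat ℓ Zᵀ l)ᵀ with hΨ
  set Φ := Ψ * ι with hΦ
  have hZι := mul_chainMat hℓp hD v
  have hWι := torus_mul_chainMat hℓp hD hWZ hv
  have hΨZ : Ψ * Z = (blockA k ℓ)ᵀ * Ψ := by
    have := congrArg Matrix.transpose (mul_chainMat hℓp hDT l)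
    rwa [Matrix.transpose_mul, Matrix.transpose_mul, Matrix.transpose_transpose] at this
  have hΨW : Ψ * W ^ (e - 1) = torus μ' (A : k) * Ψ := by
    have := congrArg Matrix.transpose (torus_mul_chainMat hℓp hDT hWZ' hl)
    rwa [Matrix.transpose_mul, Matrix.transpose_mul, hW', Matrix.transpose_transpose, torus,
      Matrix.diagonal_transpose] at this
  -- `Φ` is triangular
  have hΦe : ∀ i r : Fin ℓ, Φ i r = ∑ x : Fin ℓ, ∑ y : Fin ℓ,
      ((descPochhammer k (x : ℕ)).coeff i / ((Nat.factorial x : ℕ) : k)) *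
      ((descPochhammer k (y : ℕ)).coeff r / ((Nat.factorial y : ℕ) : k)) *
      (l ⬝ᵥ ((Z - 1) ^ ((x : ℕ) + y) *ᵥ v)) := by
    intro i r
    have e1 : Φ i r = chain ℓ Zᵀ l i ⬝ᵥ chain ℓ Z v r := rfl
    rw [e1]
    simp only [chain, sum_dotProduct, dotProduct_sum, smul_dotProduct, dotProduct_smul, smul_eq_mul]
    simp only [Finset.mul_sum]
    rw [Finset.sum_comm]
    refine Finset.sum_congr rfl fun x _ => Finset.sum_congr rfl fun y _ => ?_
    have e2 : ((Zᵀ - 1) ^ (x : ℕ) *ᵥ l) ⬝ᵥ ((Z - 1) ^ (y : ℕ) *ᵥ v) =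
        l ⬝ᵥ ((Z - 1) ^ ((x : ℕ) + y) *ᵥ v) := by
      rw [show Zᵀ - 1 = (Z - 1)ᵀ by simp, ← Matrix.transpose_pow,
        Matrix.mulVec_transpose, ← Matrix.dotProduct_mulVec, Matrix.mulVec_mulVec, ← pow_add]
    rw [e2]; ring
  have hterm : ∀ i r x y : Fin ℓ, ((descPochhammer k (x : ℕ)).coeff i ≠ 0) →
      ((descPochhammer k (y : ℕ)).coeff r ≠ 0) → (i : ℕ) ≤ x ∧ (r : ℕ) ≤ y := fun i r x y h1 h2 =>
    ⟨not_lt.mp fun h => h1 (coeff_descPochhammer_of_lt h),
      not_lt.mp fun h => h2 (coeff_descPochhammer_of_lt h)⟩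
  have hzero : ∀ n, ℓ ≤ n → l ⬝ᵥ ((Z - 1) ^ n *ᵥ v) = 0 := fun n hn => by
    rw [pow_eq_zero_of_le hn hD, Matrix.zero_mulVec, dotProduct_zero]
  have hΦ0 : ∀ i r : Fin ℓ, ℓ ≤ (i : ℕ) + r → Φ i r = 0 := by
    intro i r h
    rw [hΦe]
    refine Finset.sum_eq_zero fun x _ => Finset.sum_eq_zero fun y _ => ?_
    by_cases h1 : (descPochhammer k (x : ℕ)).coeff i = 0
    · simp [h1]
    by_cases h2 : (descPochhammer k (y : ℕ)).coeff r = 0
    · simp [h2]
    obtain ⟨ha', hb'⟩ := hterm i r x y h1 h2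
    rw [hzero _ (by omega), mul_zero]
  have hΦ1 : ∀ i r : Fin ℓ, (i : ℕ) + r + 1 = ℓ → Φ i r ≠ 0 := by
    intro i r h
    rw [hΦe, Finset.sum_eq_single i (fun x _ hx => Finset.sum_eq_zero fun y _ => ?_)
      (fun h' => absurd (Finset.mem_univ i) h'), Finset.sum_eq_single r (fun y _ hy => ?_)
      (fun h' => absurd (Finset.mem_univ r) h'), coeff_descPochhammer_self,
      coeff_descPochhammer_self, show (i : ℕ) + r = ℓ - 1 by omega]
    · refine mul_ne_zero (mul_ne_zero ?_ ?_) hlv <;>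
        exact one_div_ne_zero (factorial_ne_zero' (p := p) (by omega))
    · by_cases h2 : (descPochhammer k (y : ℕ)).coeff r = 0
      · simp [h2]
      obtain ⟨-, hb'⟩ := hterm i r i y (by rw [coeff_descPochhammer_self]; exact one_ne_zero) h2
      have : (r : ℕ) ≠ y := fun e => hy (Fin.ext e.symm)
      rw [hzero _ (by omega), mul_zero]
    · by_cases h1 : (descPochhammer k (x : ℕ)).coeff i = 0
      · simp [h1]
      by_cases h2 : (descPochhammer k (y : ℕ)).coeff r = 0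
      · simp [h2]
      obtain ⟨ha', hb'⟩ := hterm i r x y h1 h2
      have : (i : ℕ) ≠ x := fun e => hx (Fin.ext e.symm)
      rw [hzero _ (by omega), mul_zero]
  have hΦdet : Φ.det ≠ 0 := by
    intro h0
    obtain ⟨x, hx, hx0⟩ := (Matrix.exists_mulVec_eq_zero_iff (M := Φ)).mpr h0
    obtain ⟨r₁, hr₁⟩ := Function.ne_iff.mp hx
    have hne : (Finset.univ.filter fun r => x r ≠ 0).Nonempty := ⟨r₁, by simpa using hr₁⟩
    set r := (Finset.univ.filter fun r => x r ≠ 0).min' hne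
    have hr : x r ≠ 0 := (Finset.mem_filter.mp (Finset.min'_mem _ hne)).2
    have hlt : (r : ℕ) < ℓ := r.2
    let i : Fin ℓ := ⟨ℓ - 1 - (r : ℕ), by omega⟩
    have h1 := congrFun hx0 i
    simp only [Matrix.mulVec, dotProduct, Pi.zero_apply] at h1
    rw [Finset.sum_eq_single r] at h1
    · exact mul_ne_zero (hΦ1 i r (by simp only [i]; omega)) hr h1
    · intro r' _ hr'
      rcases lt_or_gt_of_ne (Fin.val_ne_of_ne hr') with h2 | h2
      · have : x r' = 0 := by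
          by_contra h3
          have := Finset.min'_le (Finset.univ.filter fun r => x r ≠ 0) r' (by simp [h3])
          rw [Fin.le_def] at this
          omega
        rw [this, mul_zero]
      · rw [hΦ0 i r' (by simp only [i]; omega), zero_mul]
    · simp
  have hΦu : IsUnit Φ.det := isUnit_iff_ne_zero.mpr hΦdet
  have hΦA : Φ * blockA k ℓ = (blockA k ℓ)ᵀ * Φ := by
    rw [hΦ, Matrix.mul_assoc, ← hZι, ← Matrix.mul_assoc, hΨZ, Matrix.mul_assoc]
  have hΦT : torus μ' (A : k) * (Φ * torus μ (A : k)) = Φ := by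
    rw [hΦ, Matrix.mul_assoc, ← hWι, ← Matrix.mul_assoc, ← Matrix.mul_assoc, ← hΨW,
      Matrix.mul_assoc Ψ, hWW', Matrix.mul_one]
  refine ⟨μ, ι, Φ⁻¹ * Ψ, hμ, by rw [Matrix.mul_assoc]; exact Matrix.nonsing_inv_mul _ hΦu, hZι, ?_,
    hWι, ?_⟩
  · calc Φ⁻¹ * Ψ * Z = Φ⁻¹ * ((blockA k ℓ)ᵀ * (Φ * Φ⁻¹)) * Ψ := by
          rw [Matrix.mul_nonsing_inv _ hΦu, Matrix.mul_one, Matrix.mul_assoc, hΨZ, Matrix.mul_assoc]
      _ = Φ⁻¹ * (Φ * blockA k ℓ) * Φ⁻¹ * Ψ := by rw [hΦA]; simp only [Matrix.mul_assoc]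
      _ = blockA k ℓ * (Φ⁻¹ * Ψ) := by
          rw [Matrix.nonsing_inv_mul_cancel_left _ _ hΦu, Matrix.mul_assoc]
  · have h1 : (torus μ (A : k) * Φ⁻¹) * (torus μ' (A : k) * Φ) = 1 := by
      have h2 : (torus μ' (A : k) * Φ) * (torus μ (A : k) * Φ⁻¹) = 1 := by
        rw [← Matrix.mul_assoc, Matrix.mul_assoc (torus μ' (A : k)), hΦT,
          Matrix.mul_nonsing_inv _ hΦu]
      exact mul_eq_one_comm.mp h2
    calc Φ⁻¹ * Ψ * W = (torus μ (A : k) * Φ⁻¹) * (torus μ' (A : k) * Φ) * (Φ⁻¹ * Ψ * W) := by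
          rw [h1, Matrix.one_mul]
      _ = (torus μ (A : k) * Φ⁻¹ * (torus μ' (A : k) * Ψ) : Matrix (Fin ℓ) d k) * W := by
          simp only [Matrix.mul_assoc]
          rw [← Matrix.mul_assoc Φ Φ⁻¹, Matrix.mul_nonsing_inv _ hΦu, Matrix.one_mul]
      _ = torus μ (A : k) * (Φ⁻¹ * Ψ) := by
          rw [← hΨW, Matrix.mul_assoc, Matrix.mul_assoc Ψ, hWW', Matrix.mul_one, Matrix.mul_assoc]

end Cfsg.Agent.SmallGroups.Mod
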