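import Cfsg.Agent.Lib.SmallGroups.Mod.Tuan

/-!
# A prime `p` with cofactor `q ^ b * g₀`, `g₀ < p - 1`, has few Sylow subgroups
-/

set_option autoImplicit false

namespace Cfsg.Agent.SmallGroups.Mod

open SelfCent SelfCent.Setup

variable {G : Type*} [Group G] [Fintype G] {p : ℕ} [hp : Fact p.Prime]

/-- The configuration of Brauer and Tuan has a self-centralizing `⟨z⟩` with few conjugates. -/
theorem few_of_cofactor [IsSimpleGroup G] (hne : ¬ IsMulCommutative G) {q b g₀ : ℕ} (hq : q.Prime)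
    (hpq : p ≠ q) (hG : Nat.card G = p * q ^ b * g₀) (hg : g₀ < p - 1) :
    ∃ (s : Setup G p) (n : ℕ), s.K = ⊥ ∧ 5 ≤ p ∧ 1 ≤ n ∧ 2 * n < p + 3 ∧
      Nat.card G = Nat.card s.auto * p * (n * p + 1) := by
  classical
  have hp' : p.Prime := hp.out
  haveI : Fact q.Prime := ⟨hq⟩
  have hg0 : 0 < g₀ := Nat.pos_of_ne_zero fun h => Nat.card_pos.ne' (by rw [hG, h, mul_zero])
  have hp3 : 3 ≤ p := by omega
  have hpm : ¬ p ∣ q ^ b * g₀ := by
    intro h
    rcases hp'.dvd_mul.mp h with h | h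
    · exact hpq ((Nat.prime_dvd_prime_iff_eq hp' hq).mp (hp'.dvd_of_dvd_pow h))
    · have := Nat.le_of_dvd hg0 h; omega
  have hdvd : p ∣ Nat.card G := ⟨q ^ b * g₀, by rw [hG, mul_assoc]⟩
  obtain ⟨z, hz⟩ := exists_prime_orderOf_dvd_card' p hdvd
  have hidx : ¬ p ∣ (Subgroup.zpowers z).index := by
    have h1 := Subgroup.card_mul_index (Subgroup.zpowers z)
    rw [Nat.card_zpowers, hz, hG, mul_assoc] at h1
    rwa [Nat.eq_of_mul_eq_mul_left hp'.pos h1]
  obtain ⟨s, hsz⟩ := BlocksCore.CyclicCount.exists_setup hz hidx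
  subst hsz
  haveI := Fintype.ofFinite s.Orb
  set e := Nat.card s.auto with hedef
  set t := Nat.card s.Orb with htdef
  have he : 2 ≤ e := SmallGroups.Few.two_le_auto hne s hidx
  have het : t * e = p - 1 := s.card_orb_mul
  have htpos : 0 < t := Nat.card_pos
  have hep : e ≤ p - 1 := by rw [← het]; exact Nat.le_mul_of_pos_left _ htpos
  obtain ⟨M, hM⟩ := BC86.exists_isPModular hp'
  obtain ⟨D, hd, hfB, -⟩ := s.exists_data_zero hM hidx hp3
  obtain ⟨R, hR1, hR2, hR3, hR4, hb, hR5⟩ := D.exists_rest hM hidx hd hfB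
  have hdiv : Nat.card G / p = q ^ b * g₀ := by
    rw [hG, mul_assoc, Nat.mul_div_cancel_left _ hp'.pos]
  have hpos : ∀ χ ∈ R, 2 ≤ deg χ := fun χ hχ => by
    have h1 := (deg_spec χ).1
    have h2 : deg χ ≠ 1 := fun h => hR2 ((deg_eq_one_iff hne χ).mp h ▸ hχ)
    omega
  have hdvdR : ∀ χ ∈ R, deg χ ∣ q ^ b * g₀ := fun χ hχ => by
    have h := D.deg_dvd χ (fun o ho => hR3 o (ho ▸ hχ))
    rw [hdiv] at h
    apply Int.natCast_dvd_natCast.mp
    rcases (hR4 χ hχ).1 with r | r <;> rw [r] at h <;> simpa using h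
  have hbig : ∀ χ ∈ R, p ≤ deg χ + 1 := by
    intro χ hχ
    obtain ⟨hc, -, hmod⟩ := hR4 χ hχ
    have h2 := hpos χ hχ
    have h3 : (p : ℤ) ≤ (deg χ : ℤ) + D.c χ := Int.le_of_dvd (by omega) hmod
    omega
  have hqR : ∀ χ ∈ R, q ∣ deg χ := by
    intro χ hχ
    by_contra h
    have h1 : deg χ ∣ g₀ :=
      (Nat.Coprime.pow_right b ((hq.coprime_iff_not_dvd.mpr h).symm)).dvd_of_dvd_mul_left
        (hdvdR χ hχ)
    have := Nat.le_of_dvd hg0 h1
    have := hbig χ hχ
    omega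
  -- the degree relation
  have hsplit : ∀ F : Cfsg.IrrCharacter G → ℂ, ∑ χ, F χ * (D.c χ : ℂ) =
      -F SelfCent.Setup.triv + ∑ χ ∈ R, F χ * (D.c χ : ℂ) := by
    intro F
    rw [← Finset.sum_subset (Finset.subset_univ (insert SelfCent.Setup.triv R)) (fun χ _ hχ => by
      rw [Finset.mem_insert, not_or] at hχ
      rw [hR5 χ hχ.1 hχ.2, Int.cast_zero, mul_zero]), Finset.sum_insert hR2, D.c_triv]
    push_cast; ring
  have hrel : (∑ χ ∈ R, (deg χ : ℤ) * D.c χ) + D.eps * D.b = 1 := by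
    have h := D.degree_eq
    rw [← Finset.sum_subset (Finset.subset_univ (insert SelfCent.Setup.triv R)) (fun χ _ hχ => by
      rw [Finset.mem_insert, not_or] at hχ
      rw [hR5 χ hχ.1 hχ.2, mul_zero]), Finset.sum_insert hR2, D.c_triv, deg_triv] at h
    push_cast at h
    linarith
  have hqB : ¬ q ∣ D.b := by
    intro h
    have h1 : (q : ℤ) ∣ 1 := by
      rw [← hrel]
      exact dvd_add (Finset.dvd_sum fun χ hχ =>
        (Int.natCast_dvd_natCast.mpr (hqR χ hχ)).mul_right _)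
        ((Int.natCast_dvd_natCast.mpr h).mul_left _)
    have := Int.le_of_dvd one_pos h1
    have := hq.two_le
    omega
  obtain ⟨o₀⟩ : Nonempty s.Orb := inferInstance
  have hB1 : 2 ≤ D.b := by
    have h1 := (deg_spec (D.f o₀)).1
    have h2 : deg (D.f o₀) ≠ 1 := fun h => D.triv_ne o₀ ((deg_eq_one_iff hne _).mp h)
    rw [D.deg_f] at h1 h2
    omega
  have hpB : ¬ p ∣ D.b := by
    intro h
    have h1 : (p : ℤ) ∣ (e : ℤ) := by
      have h2 := dvd_sub (Int.natCast_dvd_natCast.mpr h) hb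
      rw [sub_sub_cancel] at h2
      rcases D.eps_eq with r | r <;> rw [r] at h2 <;>
        simpa only [mul_one, mul_neg, dvd_neg] using h2
    have := Int.le_of_dvd (by omega) h1
    omega
  have hBg : D.b ∣ g₀ := by
    have h1 := D.deg_f o₀ ▸ (deg_spec (D.f o₀)).2.1
    rw [hG, mul_assoc] at h1
    exact (Nat.Coprime.pow_right b ((hq.coprime_iff_not_dvd.mpr hqB).symm)).dvd_of_dvd_mul_left
      (((hp'.coprime_iff_not_dvd.mpr hpB).symm).dvd_of_dvd_mul_left h1)
  have hBle : D.b ≤ g₀ := Nat.le_of_dvd hg0 hBg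
  have hK : s.K = ⊥ := K_eq_bot_of_small s D hd (by omega) hb
  have heB : (D.eps = 1 ∧ D.b = e ∧ 2 * e + 1 ≤ p) ∨ (D.eps = -1 ∧ D.b + e = p ∧ 2 * e + 1 ≤ p) := by
    obtain ⟨c, hc⟩ := hb
    have hp0 : (0 : ℤ) < p := by exact_mod_cast hp'.pos
    have ht2 : D.b ≠ 1 → ¬ (e = p - 1) → 2 * e + 1 ≤ p := by
      intro _ h
      rcases Nat.lt_or_ge t 2 with h' | h'
      · rw [show t = 1 by omega, one_mul] at het; omega
      · have : 2 * e ≤ t * e := Nat.mul_le_mul_right e h'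
        omega
    rcases D.eps_eq with r | r <;> rw [r] at hc
    · have hc0 : c = 0 := by
        rcases lt_trichotomy c 0 with h | h | h
        · have : (p : ℤ) * c ≤ (p : ℤ) * (-1) := mul_le_mul_of_nonneg_left (by omega) hp0.le
          omega
        · exact h
        · have : (p : ℤ) * 1 ≤ (p : ℤ) * c := mul_le_mul_of_nonneg_left (by omega) hp0.le
          omega
      rw [hc0, mul_zero] at hc
      exact Or.inl ⟨r, by omega, ht2 (by omega) (by omega)⟩
    · have hc1 : c = 1 := by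
        rcases lt_trichotomy c 1 with h | h | h
        · have : (p : ℤ) * c ≤ (p : ℤ) * 0 := mul_le_mul_of_nonneg_left (by omega) hp0.le
          omega
        · exact h
        · have : (p : ℤ) * 2 ≤ (p : ℤ) * c := mul_le_mul_of_nonneg_left (by omega) hp0.le
          omega
      rw [hc1, mul_one] at hc
      exact Or.inr ⟨r, by omega, ht2 (by omega) (by omega)⟩
  have hp5 : 5 ≤ p := by rcases heB with h | h <;> omega
  -- the number of Sylow subgroups
  have hPc : Nat.card (Subgroup.zpowers s.z) = p ^ 1 := by rw [Nat.card_zpowers, hz, pow_one]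
  let Q : Sylow p G := (IsPGroup.of_card hPc).toSylow hidx
  have hn0 : Nat.card (Sylow p G) % p = 1 := by
    have h := card_sylow_modEq_one p G
    rwa [Nat.ModEq, Nat.mod_eq_of_lt hp'.one_lt] at h
  set n := Nat.card (Sylow p G) / p with hndef
  have hsyl : Nat.card (Sylow p G) = n * p + 1 := by
    have := Nat.div_add_mod (Nat.card (Sylow p G)) p
    rw [hn0] at this
    rw [hndef, mul_comm]
    omega
  have hn1 : 1 ≤ n := by
    rcases Nat.eq_zero_or_pos n with h | h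
    · rw [h, zero_mul, zero_add] at hsyl
      exact absurd hsyl (SmallGroups.card_sylow_ne_one hne hdvd)
    · exact h
  have hNcard : Nat.card s.norm = e * p := by
    have h1 := s.card_normalizer
    rw [show Nat.card s.K = 1 by rw [hK, Subgroup.card_bot], mul_one] at h1
    exact h1
  have hG' : Nat.card G = e * p * (n * p + 1) := by
    have h1 := SmallGroups.card_normalizer_mul Q
    rw [show ((Q : Subgroup G) : Set G) = ((Subgroup.zpowers s.z : Subgroup G) : Set G) from rfl,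
      hNcard, hsyl] at h1
    exact h1.symm
  refine ⟨s, n, hK, hp5, hn1, ?_, hG'⟩
  have hmodular : (2 * D.b ≤ p ∨ (2 * D.b = p + 1 ∧ 4 ∣ p - 1 ∧ 7 ≤ p)) → 2 * n < p + 3 := by
    intro hcase
    have h1 := index_norm_le s hK hp5 he (by omega) (D.f o₀) (D.triv_ne o₀)
      (by rwa [D.deg_f])
    have h2 := Subgroup.card_eq_card_quotient_mul_card_subgroup s.norm
    rw [hNcard, hG'] at h2
    have h3 : n * p + 1 ≤ p + 1 := by
      have h4 : Nat.card (G ⧸ s.norm) = n * p + 1 :=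
        Nat.eq_of_mul_eq_mul_right (show 0 < e * p from Nat.mul_pos (by omega) hp'.pos)
          (by rw [← h2]; ring)
      omega
    have h5 : n ≤ 1 := Nat.le_of_mul_le_mul_right (by omega : n * p ≤ 1 * p) hp'.pos
    omega
  rcases heB with ⟨-, hBe, h2e⟩ | ⟨heps, hBe, h2e⟩
  · exact hmodular (Or.inl (by omega))
  -- `eps = -1`: `g₀ = B`, `e` is a power of `q`
  have hgB : g₀ = D.b := by
    obtain ⟨h, hh⟩ := hBg
    have h2 : h < 2 := by
      by_contra h3
      have : D.b * 2 ≤ D.b * h := Nat.mul_le_mul_left _ (by omega)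
      omega
    interval_cases h
    · omega
    · omega
  subst hgB
  have hM0 : e * (n * p + 1) = q ^ b * D.b := by
    apply Nat.eq_of_mul_eq_mul_left hp'.pos
    rw [← mul_assoc, ← mul_assoc, ← hG, hG']; ring
  have hecop : Nat.Coprime e D.b := by
    refine Nat.Coprime.symm (Nat.dvd_one.mp ?_ : Nat.gcd D.b e = 1)
    have h1 : Nat.gcd D.b e ∣ p := (Nat.dvd_add (Nat.gcd_dvd_left _ _) (Nat.gcd_dvd_right _ _)).trans (dvd_of_eq hBe)
    rcases (Nat.dvd_prime hp').mp h1 with h | h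
    · rw [h]
    · have := Nat.le_of_dvd (by omega) (h ▸ Nat.gcd_dvd_right D.b e : p ∣ e)
      omega
  obtain ⟨a, hab, hea⟩ := (Nat.dvd_prime_pow hq).mp
    (hecop.dvd_of_dvd_mul_right (Dvd.intro _ hM0 : e ∣ q ^ b * D.b))
  have ha1 : 1 ≤ a := by
    rcases Nat.eq_zero_or_pos a with h | h
    · rw [h, pow_zero] at hea; omega
    · exact h
  have hqe : q ∣ e := hea ▸ dvd_pow_self q (by omega)
  have hqG : q ∣ Nat.card G := by
    rw [hG]; exact dvd_mul_of_dvd_left (dvd_mul_of_dvd_right (dvd_pow_self q (by omega)) _) _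
  obtain ⟨g, hgo, hgC⟩ := exists_central_elt (G := G) q hqG
  have hgne : ∀ k : ZMod p, k ≠ 0 → ∀ w ∈ s.K, ¬ IsConj g (s.zp k * w) := by
    intro k hk w hw hc
    rw [hK, Subgroup.mem_bot] at hw
    rw [hw, mul_one] at hc
    obtain ⟨u, hu⟩ := isConj_iff.mp hc
    have : orderOf (s.zp k) = orderOf g := by
      rw [← hu]; exact orderOf_injective (MulAut.conj u).toMonoidHom (MulEquiv.injective _) g
    rw [BlocksCore.CyclicBlock.orderOf_zp s hk, hgo] at this
    exact hpq this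
  have hfval : (D.f o₀ : G → ℂ) g = -1 + ∑ χ ∈ R, (χ : G → ℂ) g * (D.c χ : ℂ) := by
    have h := D.value_eq hgne o₀
    rw [hsplit, heps] at h
    simp only [SelfCent.Setup.triv, Pi.one_apply, Int.cast_neg, Int.cast_one] at h
    linear_combination -h
  -- `q = 2`
  have hq2 : q = 2 := by
    by_contra hq2
    have hex : ∀ χ ∈ R, ∃ X : Cfsg.AlgInt, (χ : G → ℂ) g * (D.c χ : ℂ) = (q : ℂ) * (X : ℂ) := by
      intro χ hχ
      obtain ⟨X, hXi, hX⟩ := dvd_apply hq χ (hqR χ hχ) hgC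
      refine ⟨⟨X, hXi⟩ * (D.c χ : Cfsg.AlgInt), ?_⟩
      rw [hX, MulMemClass.coe_mul, SubringClass.coe_intCast]
      ring
    choose! X hX using hex
    obtain ⟨Y, hYi, hY⟩ := apply_pow_congr q (D.f o₀)
      (orderOf_dvd_iff_pow_eq_one.mp (dvd_of_eq hgo) : g ^ q = 1)
    rw [D.deg_f, hfval, Finset.sum_congr rfl hX, ← Finset.mul_sum] at hY
    obtain ⟨W, hW⟩ : ((q : Cfsg.AlgInt)) ∣
        (-1 + (q : Cfsg.AlgInt) * ∑ χ ∈ R, X χ) ^ q - (-1) ^ q :=
      (Dvd.intro _ (by ring : (q : Cfsg.AlgInt) * ∑ χ ∈ R, X χ =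
        (-1 + (q : Cfsg.AlgInt) * ∑ χ ∈ R, X χ) - (-1))).trans (sub_dvd_pow_sub_pow _ _ q)
    have h1 := congrArg (fun x : Cfsg.AlgInt => (x : ℂ)) hW
    simp only [AddSubgroupClass.coe_sub, AddMemClass.coe_add, MulMemClass.coe_mul,
      SubmonoidClass.coe_pow, NegMemClass.coe_neg, OneMemClass.coe_one, SubringClass.coe_natCast,
      AddSubmonoidClass.coe_finsetSum] at h1
    rw [hY, Odd.neg_one_pow (hq.odd_of_ne_two hq2)] at h1
    have h2 : (q : ℤ) ∣ (D.b : ℤ) + 1 := by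
      refine int_dvd_of_eq hq.ne_zero (W.2.sub hYi) ?_
      push_cast
      linear_combination h1
    have h3 : (q : ℤ) ∣ (p : ℤ) - 1 := by
      have : q ∣ p - 1 := (hqe.trans (Dvd.intro_left t het))
      have h := Int.natCast_dvd_natCast.mpr this
      rwa [Nat.cast_sub hp'.one_le, Nat.cast_one] at h
    have h4 : (q : ℤ) ∣ 2 := by
      have h := dvd_add (dvd_sub h2 h3) (Int.natCast_dvd_natCast.mpr hqe)
      rwa [show (D.b : ℤ) + 1 - ((p : ℤ) - 1) + (e : ℤ) = 2 by omega] at h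
    have := Int.le_of_dvd two_pos h4
    have := hq.two_le
    omega
  subst hq2
  rcases Nat.lt_or_ge a 2 with ha2 | ha2
  · -- `e = 2`
    have he2 : e = 2 := by rw [hea, show a = 1 by omega, pow_one]
    obtain ⟨χ, hRχ⟩ := Finset.card_eq_one.mp (show R.card = 1 by omega)
    have hχR : χ ∈ R := by rw [hRχ]; exact Finset.mem_singleton_self _
    rw [hRχ, Finset.sum_singleton, heps] at hrel
    have hdpos := hpos χ hχR
    have hc : D.c χ = 1 := by
      rcases (hR4 χ hχR).1 with r | r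
      · exact r
      · rw [r] at hrel; omega
    rw [hc, mul_one] at hrel
    have hdχ : deg χ + 1 = p := by omega
    have hdd : deg χ ∣ 2 ^ b := by
      have h1 := hdvdR χ hχR
      refine Nat.Coprime.dvd_of_dvd_mul_right ?_ h1
      rw [show deg χ = D.b + 1 by omega, Nat.coprime_self_add_left]
      exact Nat.coprime_one_left _
    obtain ⟨m, hmb, hm⟩ := (Nat.dvd_prime_pow Nat.prime_two).mp hdd
    have hbm := two_case hne s hK D hd heps he2 hp5 (by omega) χ
      (fun h => hR2 (h ▸ hχR)) (fun o ho => hR3 o (ho ▸ hχR)) hc hdχ m (by omega)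
      (fun ψ h1 h2 => hR5 ψ h1 (by rw [hRχ, Finset.mem_singleton]; exact h2)) hG hmb
    rw [he2, hbm, ← hm, show deg χ = p - 1 by omega, show D.b = p - 2 by omega] at hM0
    by_contra hlt
    have h3 : (p + 3) * p ≤ 2 * n * p := Nat.mul_le_mul_right p (by omega)
    have h4 : (p - 1) * (p - 2) ≤ p * p := Nat.mul_le_mul (Nat.sub_le _ _) (Nat.sub_le _ _)
    linarith [h3, h4, hM0, show (p + 3) * p = p * p + 3 * p by ring,
      show 2 * (n * p + 1) = 2 * n * p + 2 by ring]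
  have h4e : 4 ∣ e := hea ▸ (dvd_trans (by norm_num) (pow_dvd_pow 2 ha2))
  have h4p : 4 ∣ p - 1 := h4e.trans (Dvd.intro_left t het)
  rcases eq_or_ne (2 * D.b) (p + 1) with hhalf | hhalf
  · refine hmodular (Or.inr ⟨hhalf, h4p, ?_⟩)
    have := Nat.le_of_dvd (by omega) h4e
    omega
  exfalso
  have h2t : 2 * e + 1 < p := by omega
  have ht3 : 3 * e ≤ p - 1 := by
    rcases Nat.lt_or_ge t 3 with h | h
    · interval_cases t <;> omega
    · rw [← het]; exact Nat.mul_le_mul_right e h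
  have hd4 : ∀ χ ∈ R, 4 ∣ deg χ := by
    intro χ hχ
    by_contra h4
    obtain ⟨u, hu⟩ := hqR χ hχ
    have hu2 : ¬ 2 ∣ u := fun h => h4 (by obtain ⟨v, rfl⟩ := h; exact ⟨v, by omega⟩)
    have huB : u ∣ D.b :=
      (Nat.Coprime.pow_right b ((Nat.prime_two.coprime_iff_not_dvd.mpr hu2).symm)).dvd_of_dvd_mul_left
        ((Dvd.intro_left 2 hu.symm).trans (hdvdR χ hχ))
    have hubig := hbig χ hχ
    obtain ⟨w, hw⟩ := huB
    have hw1 : w = 1 := by
      by_contra hw1
      have hw0 : w ≠ 0 := fun h => by rw [h, mul_zero] at hw; omega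
      have hw3 : 3 ≤ w := by
        have : w ≠ 2 := fun h => hqB ⟨u, by rw [hw, h, mul_comm]⟩
        omega
      have : u * 3 ≤ u * w := Nat.mul_le_mul_left u hw3
      omega
    rw [hw1, mul_one] at hw
    obtain ⟨hc, -, hmod⟩ := hR4 χ hχ
    obtain ⟨k, hk⟩ := hmod
    have hk' : k = 1 := by
      rcases lt_trichotomy k 1 with h | h | h
      · have : (p : ℤ) * k ≤ (p : ℤ) * 0 := mul_le_mul_of_nonneg_left (by omega) (by positivity)
        omega
      · exact h
      · have : (p : ℤ) * 2 ≤ (p : ℤ) * k := mul_le_mul_of_nonneg_left (by omega) (by positivity)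
        omega
    rw [hk', mul_one] at hk
    omega
  have hg2 : g ^ 2 = 1 := orderOf_dvd_iff_pow_eq_one.mp (dvd_of_eq hgo)
  have hint4 : ∀ χ ∈ R, ∃ v : ℤ, (χ : G → ℂ) g * (D.c χ : ℂ) = (4 * v : ℤ) := by
    intro χ hχ
    obtain ⟨v, hv, -, -, -⟩ := SelfCent.exists_int_value_four hne χ hg2
    have h1 := SelfCent.deg_dvd_index_mul χ hv
    have h2 : (4 : ℤ) ∣ ((Subgroup.centralizer ({g} : Set G)).index : ℤ) * v :=
      (Int.natCast_dvd_natCast.mpr (hd4 χ hχ)).trans h1
    have hco : IsCoprime (4 : ℤ) ((Subgroup.centralizer ({g} : Set G)).index : ℤ) := by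
      rw [show (4 : ℤ) = ((4 : ℕ) : ℤ) from rfl, Int.isCoprime_iff_nat_coprime]
      simpa using Nat.Coprime.pow_left 2 (Nat.prime_two.coprime_iff_not_dvd.mpr hgC)
    obtain ⟨w, hw⟩ := hco.dvd_of_dvd_mul_left h2
    exact ⟨w * D.c χ, by rw [hv, hw]; push_cast; ring⟩
  choose! v hv using hint4
  obtain ⟨u, hu, -, -, hu4⟩ := SelfCent.exists_int_value_four hne (D.f o₀) hg2
  rw [D.deg_f] at hu4
  rw [hu, Finset.sum_congr rfl hv, ← Int.cast_sum] at hfval
  have h1 : u = -1 + ∑ χ ∈ R, 4 * v χ := by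
    apply Int.cast_injective (α := ℂ)
    rw [hfval]; push_cast; ring
  rw [← Finset.mul_sum] at h1
  obtain ⟨e', he'⟩ := h4e
  obtain ⟨p', hp4⟩ := h4p
  omega

end Cfsg.Agent.SmallGroups.Mod
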