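import Cfsg.Agent.Lib.BlocksCore.StableHom
import Mathlib.Algebra.CharP.Algebra
import Mathlib.Algebra.CharP.Lemmas
import Mathlib.RingTheory.Nilpotent.Basic

/-!
# Lifting an `N`-equivariant idempotent to a `G`-equivariant one

Let `P = ⟨z⟩` have order `p` and equal `H ∩ H^g` for no `g` outside `H ≤ N(P)`.  On a
representation with `(ρ z - 1) ^ (p - 1) = 0` the relative trace to `G` of an `H`-equivariant
idempotent differs from it by a map lowering the filtration of `ρ z - 1`, so the `p`-th power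
of the trace is an idempotent conjugate to the given one by a map commuting with `z`.
-/

set_option autoImplicit false

namespace Cfsg.Agent.SmallGroups.Mod

open Finset

variable {k : Type*} [Field k] {p : ℕ} [Fact p.Prime] [CharP k p]
  {V : Type*} [AddCommGroup V] [Module k V]

/-- Maps commuting with `Z` which lower the filtration of `D = Z - 1`. -/
def Lowers (Z φ : Module.End k V) : Prop :=
  Commute φ Z ∧ ∀ (i : ℕ) (v : V), ((Z - 1) ^ (i + 1)) v = 0 → ((Z - 1) ^ i) (φ v) = 0

theorem Lowers.pow_apply_eq_zero {Z φ : Module.End k V} (h : Lowers Z φ) :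
    ∀ (i : ℕ) (v : V), ((Z - 1) ^ i) v = 0 → (φ ^ i) v = 0 := by
  intro i
  induction i with
  | zero => intro v hv; simpa using hv
  | succ i ih =>
    intro v hv
    rw [pow_succ, Module.End.mul_apply]
    exact ih _ (h.2 i v hv)

theorem Lowers.pow_eq_zero {Z φ : Module.End k V} (h : Lowers Z φ) {m : ℕ}
    (hZ : (Z - 1) ^ m = 0) : φ ^ m = 0 :=
  LinearMap.ext fun v => h.pow_apply_eq_zero m v (by rw [hZ]; rfl)

theorem Lowers.mul_right {Z φ ψ : Module.End k V} (h : Lowers Z φ) (hψ : Commute ψ Z) :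
    Lowers Z (φ * ψ) := by
  refine ⟨h.1.mul_left hψ, fun i v hv => h.2 i (ψ v) ?_⟩
  have hc : Commute ((Z - 1) ^ (i + 1)) ψ :=
    ((hψ.sub_right (Commute.one_right ψ)).pow_right _).symm
  have := congrArg (fun f : Module.End k V => f v) hc.eq
  simp only [Module.End.mul_apply] at this
  rw [this, hv, map_zero]

theorem Lowers.mul_left {Z φ ψ : Module.End k V} (h : Lowers Z φ) (hψ : Commute ψ Z) :
    Lowers Z (ψ * φ) := by
  refine ⟨hψ.mul_left h.1, fun i v hv => ?_⟩
  have hc : Commute ((Z - 1) ^ i) ψ :=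
    ((hψ.sub_right (Commute.one_right ψ)).pow_right _).symm
  have := congrArg (fun f : Module.End k V => f (φ v)) hc.eq
  simp only [Module.End.mul_apply] at this
  rw [Module.End.mul_apply, this, h.2 i v hv, map_zero]

theorem Lowers.add {Z φ ψ : Module.End k V} (h : Lowers Z φ) (h' : Lowers Z ψ) :
    Lowers Z (φ + ψ) :=
  ⟨h.1.add_left h'.1, fun i v hv => by rw [LinearMap.add_apply, map_add, h.2 i v hv, h'.2 i v hv,
    add_zero]⟩

theorem Lowers.neg {Z φ : Module.End k V} (h : Lowers Z φ) : Lowers Z (-φ) :=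
  ⟨h.1.neg_left, fun i v hv => by rw [LinearMap.neg_apply, map_neg, h.2 i v hv, neg_zero]⟩

theorem Lowers.zero (Z : Module.End k V) : Lowers Z (0 : Module.End k V) :=
  ⟨Commute.zero_left _, fun i v _ => by simp⟩

theorem Lowers.pow_sub_pow {Z π φ : Module.End k V} (hπ : Commute π Z) (hφ : Lowers Z φ) (n : ℕ) :
    Lowers Z ((π + φ) ^ n - π ^ n) := by
  induction n with
  | zero => simpa using Lowers.zero Z
  | succ n ih =>
    have e : (π + φ) ^ (n + 1) - π ^ (n + 1) =
        (π + φ) * ((π + φ) ^ n - π ^ n) + φ * π ^ n := by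
      rw [pow_succ', pow_succ']; noncomm_ring
    rw [e]
    exact (ih.mul_left (hπ.add_left hφ.1)).add (hφ.mul_right (hπ.pow_left n))

variable {G : Type*} [Group G] [Finite G]

/-- The lifting theorem. -/
theorem exists_lift (ρ : Representation k G V) {z : G} (hz : orderOf z = p)
    (H : Subgroup G) [Fintype (G ⧸ H)] (hzH : z ∈ H)
    (hTI : ∀ g : G, g⁻¹ * z * g ∈ H → g ∈ H) (hD : (ρ z - 1) ^ (p - 1) = 0)
    (π : Module.End k V) (hπ : π * π = π) (hcomm : ∀ h ∈ H, Commute (ρ h) π) :
    ∃ (E : Module.End k V) (u : (Module.End k V)ˣ), E * E = E ∧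
      (∀ g, Commute (ρ g) E) ∧ Commute (ρ z) (u : Module.End k V) ∧
      E * u = u * π ∧
      (∀ B : V → V → k, (∀ g v w, B (ρ g v) (ρ g w) = B v w) →
        (∀ v₁ v₂ w, B (v₁ + v₂) w = B v₁ w + B v₂ w) →
        (∀ v w₁ w₂, B v (w₁ + w₂) = B v w₁ + B v w₂) →
        (∀ v w, B (π v) w = B v (π w)) → ∀ v w, B (E v) w = B v (E w)) := by
  classical
  have hp : p.Prime := Fact.out
  set Z := ρ z with hZ
  have hmul : ∀ a b, ρ (a * b) = ρ a * ρ b := fun a b => map_mul ρ a b
  let F : G → Module.End k V := fun g => ρ g * π * ρ g⁻¹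
  have hF : ∀ g, ∀ h ∈ H, F (g * h) = F g := by
    intro g h hh
    show ρ (g * h) * π * ρ (g * h)⁻¹ = ρ g * π * ρ g⁻¹
    rw [mul_inv_rev, hmul, hmul, mul_assoc (ρ g) (ρ h) π, (hcomm h hh).eq, ← mul_assoc (ρ g) π,
      mul_assoc (ρ g * π), ← mul_assoc (ρ h), ← hmul, mul_inv_cancel, map_one, one_mul]
  have hFq : ∀ (q : G ⧸ H) (g : G), (g : G ⧸ H) = q → F q.out = F g := by
    rintro q g rfl
    obtain ⟨⟨h, hh⟩, e⟩ := QuotientGroup.mk_out_eq_mul H g
    rw [e]; exact hF g h hh
  let T : Module.End k V := ∑ q : G ⧸ H, F q.out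
  have hconj : ∀ (g : G) (q : G ⧸ H), ρ g * F q.out = F (g • q).out * ρ g := by
    intro g q
    rw [hFq (g • q) (g * q.out) (by
      show ((g * q.out : G) : G ⧸ H) = g • q
      conv_rhs => rw [← QuotientGroup.out_eq' q]
      rfl)]
    show ρ g * (ρ q.out * π * ρ q.out⁻¹) = ρ (g * q.out) * π * ρ (g * q.out)⁻¹ * ρ g
    rw [mul_inv_rev, mul_assoc (ρ (g * q.out) * π), ← hmul, inv_mul_cancel_right, hmul]
    simp only [mul_assoc]
  have hTG : ∀ g, Commute (ρ g) T := by
    intro g
    show ρ g * T = T * ρ g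
    rw [Finset.mul_sum, Finset.sum_mul]
    exact Fintype.sum_equiv (MulAction.toPerm g) _ _ fun q => hconj g q
  have h1q : F (((1 : G) : G ⧸ H)).out = π := by
    rw [hFq _ 1 rfl]
    show ρ 1 * π * ρ 1⁻¹ = π
    rw [inv_one, map_one, one_mul, mul_one]
  -- the nontrivial cosets form free orbits of `⟨z⟩`
  set φ := T - π with hφdef
  have hφsum : φ = ∑ q : {q : G ⧸ H // q ≠ ((1 : G) : G ⧸ H)}, F q.1.out := by
    rw [hφdef, show T = ∑ q : G ⧸ H, F q.out from rfl,
      ← Finset.add_sum_erase _ _ (Finset.mem_univ ((1 : G) : G ⧸ H)), h1q, add_sub_cancel_left]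
    exact Finset.sum_subtype _ (fun q => by simp) (fun q : G ⧸ H => F q.out)
  haveI : Fintype (Subgroup.zpowers z) := Fintype.ofFinite _
  have hstab : ∀ (a : Subgroup.zpowers z) (q : G ⧸ H), q ≠ ((1 : G) : G ⧸ H) →
      (a : G) • q ≠ ((1 : G) : G ⧸ H) := by
    intro a q hq h
    refine hq ?_
    have e : q = ((a : G)⁻¹) • (((1 : G) : G ⧸ H)) := by rw [← h, inv_smul_smul]
    rw [e]
    show (((a : G)⁻¹ * 1 : G) : G ⧸ H) = ((1 : G) : G ⧸ H)
    rw [mul_one, QuotientGroup.eq, mul_one, inv_inv]
    exact Subgroup.zpowers_le.mpr hzH a.2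
  letI : MulAction (Subgroup.zpowers z) {q : G ⧸ H // q ≠ ((1 : G) : G ⧸ H)} :=
    { smul := fun a q => ⟨(a : G) • q.1, hstab a q.1 q.2⟩
      one_smul := fun q => Subtype.ext (one_smul G q.1)
      mul_smul := fun a b q => Subtype.ext (mul_smul (a : G) (b : G) q.1) }
  have hfree : ∀ (a : Subgroup.zpowers z) (q : {q : G ⧸ H // q ≠ ((1 : G) : G ⧸ H)}),
      a • q = q → a = 1 := by
    intro a q h
    by_contra ha
    refine q.2 ?_
    have h' : (a : G) • q.1 = q.1 := congrArg Subtype.val h
    rw [← QuotientGroup.out_eq' q.1] at h' ⊢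
    rw [QuotientGroup.eq, mul_one]
    refine inv_mem (hTI _ ?_)
    obtain ⟨i, hi⟩ := Subgroup.mem_zpowers_iff.mp a.2
    have hgen : z ∈ Subgroup.zpowers (a : G) := by
      have hc : Nat.card (Subgroup.zpowers z) = p := by rw [Nat.card_zpowers, hz]
      have := (zpowers_eq_top_of_prime_card (G := Subgroup.zpowers z) hc ha)
      obtain ⟨j, hj⟩ := Subgroup.mem_zpowers_iff.mp
        (this ▸ Subgroup.mem_top (⟨z, Subgroup.mem_zpowers z⟩ : Subgroup.zpowers z))
      exact ⟨j, by simpa using congrArg Subtype.val hj⟩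
    obtain ⟨j, hj⟩ := Subgroup.mem_zpowers_iff.mp hgen
    have h2 : q.1.out⁻¹ * (a : G) * q.1.out ∈ H := by
      have h3 : (((a : G) * q.1.out : G) : G ⧸ H) = (q.1.out : G ⧸ H) := h'
      rw [eq_comm, QuotientGroup.eq] at h3
      rwa [mul_assoc]
    have := zpow_mem h2 j
    rw [show q.1.out⁻¹ * (a : G) * q.1.out = MulAut.conj q.1.out⁻¹ (a : G) by simp, ← map_zpow,
      hj] at this
    simpa using this
  have hφlow : Lowers Z φ := by
    have hφc : Commute φ Z := ((hTG z).symm.sub_left (hcomm z hzH).symm)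
    refine ⟨hφc, fun i v hv => ?_⟩
    have hc : Commute ((Z - 1) ^ i) φ :=
      ((hφc.sub_right (Commute.one_right φ)).pow_right i).symm
    have e := congrArg (fun f : Module.End k V => f v) hc.eq
    simp only [Module.End.mul_apply] at e
    rw [e]
    set w := ((Z - 1) ^ i) v with hw
    have hfix : ρ z w = w := by
      have h1 : (Z - 1) w = 0 := by rw [hw, ← Module.End.mul_apply, ← pow_succ']; exact hv
      rwa [LinearMap.sub_apply, sub_eq_zero, Module.End.one_apply] at h1
    have hfixa : ∀ a : Subgroup.zpowers z, ρ (a : G)⁻¹ w = w := by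
      rintro ⟨a, ha⟩
      have hn : ∀ n : ℕ, ρ (z ^ n) w = w := fun n => by
        induction n with
        | zero => simp
        | succ n ih => rw [pow_succ, hmul, Module.End.mul_apply, hfix, ih]
      obtain ⟨n, hn'⟩ := (mem_powers_iff_mem_zpowers (x := z)).mpr (inv_mem ha)
      show ρ a⁻¹ w = w
      rw [← hn']; exact hn n
    rw [hφsum, LinearMap.sum_apply, BlocksCore.StableHom.sum_eq_sum_free hfree]
    rw [Finset.sum_comm]
    refine Finset.sum_eq_zero fun q _ => ?_
    have hq : ∀ a : Subgroup.zpowers z, F ((a • q.out).1.out) w = ρ (a : G) (F q.out.1.out w) := by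
      intro a
      have h1 := congrArg (fun f : Module.End k V => f w) (hconj (a : G) q.out.1)
      simp only [Module.End.mul_apply] at h1
      rw [h1, show ρ (a : G) w = w by simpa using hfixa a⁻¹]
      rfl
    rw [Finset.sum_congr rfl fun a _ => hq a]
    have hgeom : (∑ a : Subgroup.zpowers z, ρ (a : G)) = (Z - 1) ^ (p - 1) := by
      have e1 : ∑ a : Subgroup.zpowers z, ρ (a : G) = ∑ i ∈ Finset.range p, Z ^ i := by
        rw [Finset.sum_range]
        let f : Fin p → Subgroup.zpowers z := fun i =>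
          ⟨z ^ (i : ℕ), pow_mem (Subgroup.mem_zpowers z) _⟩
        refine (Fintype.sum_bijective f ?_ _ _ fun i => ?_).symm
        · rw [Fintype.bijective_iff_injective_and_card]
          refine ⟨fun i j h => Fin.ext ?_, by rw [Fintype.card_fin, ← Nat.card_eq_fintype_card,
            Nat.card_zpowers, hz]⟩
          have h' : z ^ (i : ℕ) = z ^ (j : ℕ) := congrArg Subtype.val h
          rw [pow_eq_pow_iff_modEq, hz] at h'
          exact Nat.ModEq.eq_of_lt_of_lt h' i.2 j.2
        · exact (map_pow ρ z i).symm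
      have e2 : (∑ i ∈ Finset.range p, (Polynomial.X : Polynomial k) ^ i) =
          (Polynomial.X - 1) ^ (p - 1) := by
        refine mul_right_cancel₀ (b := (Polynomial.X : Polynomial k) - 1) ?_ ?_
        · simpa using Polynomial.X_sub_C_ne_zero (1 : k)
        · rw [geom_sum_mul, ← pow_succ, Nat.sub_add_cancel hp.one_le, sub_pow_char, one_pow]
      have e3 := congrArg (Polynomial.aeval Z) e2
      simp only [map_sum, map_pow, map_sub, map_one, Polynomial.aeval_X] at e3
      rw [e1, e3]
    have := congrArg (fun f : Module.End k V => f (F q.out.1.out w)) hgeom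
    simp only [LinearMap.sum_apply, hD, LinearMap.zero_apply] at this
    exact this
  have hT : T = π + φ := by rw [hφdef, add_sub_cancel]
  have hπZ : Commute π Z := (hcomm z hzH).symm
  have hE0 : Lowers Z (T * T - T) := by
    have e : T * T - T = π * φ + φ * π + φ * φ + -φ := by
      rw [hT, add_mul, mul_add, mul_add, hπ]; abel
    rw [e]
    exact (((hφlow.mul_left hπZ).add (hφlow.mul_right hπZ)).add (hφlow.mul_right hφlow.1)).add
      hφlow.neg
  have hEE : T ^ p * T ^ p = T ^ p := by
    rcases subsingleton_or_nontrivial V with hV | hV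
    · exact LinearMap.ext fun v => Subsingleton.elim _ _
    haveI : CharP (Module.End k V) p :=
      charP_of_injective_ringHom (algebraMap k (Module.End k V)).injective p
    have h0 : (T * T - T) ^ p = 0 := by
      have := hE0.pow_eq_zero hD
      rw [← Nat.sub_add_cancel hp.one_le, pow_succ, this, zero_mul]
    rw [sub_pow_char_of_commute p ((Commute.refl T).mul_left (Commute.refl T)),
      (Commute.refl T).mul_pow] at h0
    exact sub_eq_zero.mp h0
  set E := T ^ p with hEdef
  have hπp : π ^ p = π := by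
    obtain ⟨m, hm⟩ : ∃ m, p = m + 1 := ⟨p - 1, by have := hp.one_le; omega⟩
    rw [hm]
    clear hm
    induction m with
    | zero => rw [zero_add, pow_one]
    | succ m ih => rw [pow_succ, ih, hπ]
  have hEπ : Lowers Z (E - π) := by
    have := hφlow.pow_sub_pow hπZ p
    rwa [← hT, hπp, ← hEdef] at this
  have hlow : Lowers Z ((E - π) * (π + π - 1)) :=
    hEπ.mul_right ((hπZ.add_left hπZ).sub_left (Commute.one_left Z))
  have hu : IsUnit (1 + (E - π) * (π + π - 1)) :=
    IsNilpotent.isUnit_one_add ⟨p - 1, hlow.pow_eq_zero hD⟩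
  have hu' : (1 + (E - π) * (π + π - 1)) = E * π + (1 - E) * (1 - π) := by
    have e1 : (E - π) * (π + π - 1) = (E * π + E * π - E) - (π * π + π * π - π) := by noncomm_ring
    rw [e1, hπ]; noncomm_ring
  refine ⟨E, hu.unit, hEE, fun g => (hTG g).pow_right p, ?_, ?_, ?_⟩
  · rw [IsUnit.unit_spec]
    exact ((Commute.one_right _).add_right hlow.1.symm)
  · rw [IsUnit.unit_spec, hu']
    rw [mul_add, ← mul_assoc, hEE, ← mul_assoc, mul_sub E 1 E, mul_one, hEE, sub_self, zero_mul,
      add_zero, add_mul, mul_assoc, hπ, mul_assoc, sub_mul 1 π π, one_mul, hπ, sub_self, mul_zero,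
      add_zero]
  · intro B hB hBadd hBadd' hBπ
    have hsum : ∀ (s : Finset (G ⧸ H)) (f : G ⧸ H → V) (w : V),
        B (∑ q ∈ s, f q) w = ∑ q ∈ s, B (f q) w := fun s f w => by
      induction s using Finset.induction with
      | empty =>
        have := hBadd 0 0 w
        simpa using this
      | @insert a t ha ih => rw [Finset.sum_insert ha, Finset.sum_insert ha, hBadd, ih]
    have hsum' : ∀ (s : Finset (G ⧸ H)) (f : G ⧸ H → V) (v : V),
        B v (∑ q ∈ s, f q) = ∑ q ∈ s, B v (f q) := fun s f v => by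
      induction s using Finset.induction with
      | empty =>
        have := hBadd' v 0 0
        simpa using this
      | @insert a t ha ih => rw [Finset.sum_insert ha, Finset.sum_insert ha, hBadd', ih]
    have hinv : ∀ g v w, B (ρ g v) w = B v (ρ g⁻¹ w) := fun g v w => by
      rw [← hB g⁻¹ (ρ g v) w, ← Module.End.mul_apply, ← hmul, inv_mul_cancel, map_one]
      rfl
    have hFsa : ∀ g v w, B (F g v) w = B v (F g w) := fun g v w => by
      show B (ρ g (π (ρ g⁻¹ v))) w = B v (ρ g (π (ρ g⁻¹ w)))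
      rw [hinv, hBπ, hinv, inv_inv]
    have hTsa : ∀ v w, B (T v) w = B v (T w) := fun v w => by
      show B ((∑ q : G ⧸ H, F q.out) v) w = B v ((∑ q : G ⧸ H, F q.out) w)
      rw [LinearMap.sum_apply, LinearMap.sum_apply, hsum, hsum']
      exact Finset.sum_congr rfl fun q _ => hFsa _ v w
    have hpow : ∀ (n : ℕ) v w, B ((T ^ n) v) w = B v ((T ^ n) w) := by
      intro n
      induction n with
      | zero => intro v w; simp
      | succ n ih =>
        intro v w
        rw [pow_succ', Module.End.mul_apply, hTsa, ih, ← Module.End.mul_apply, ← pow_succ,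
          pow_succ']
    exact hpow p

end Cfsg.Agent.SmallGroups.Mod
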