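import Mathlib.LinearAlgebra.Matrix.Trace
import Mathlib.Data.Nat.Choose.Basic
import Mathlib.Algebra.CharP.Basic
import Mathlib.Tactic.LinearCombination
import Mathlib.Tactic.FieldSimp
import Mathlib.Tactic.FinCases
import Mathlib.Tactic.NoncommRing
import Mathlib.Tactic.Linarith

/-!
# A single unipotent block and its principal `sl₂`

`A` is the unipotent block in the basis `c i = N ^ i v / i !`; `N`, `H`, `F` are the triple.
-/

set_option autoImplicit false

namespace Cfsg.Agent.SmallGroups.Mod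

open Matrix

variable (k : Type*) [Field k] (ℓ : ℕ)

def blockA : Matrix (Fin ℓ) (Fin ℓ) k := of fun m i => ((m : ℕ).choose i : k)

def triN : Matrix (Fin ℓ) (Fin ℓ) k :=
  of fun m i => if (m : ℕ) = i + 1 then ((i : ℕ) : k) + 1 else 0

def triH : Matrix (Fin ℓ) (Fin ℓ) k := diagonal fun i => (ℓ : k) - 1 - 2 * ((i : ℕ) : k)

def triF : Matrix (Fin ℓ) (Fin ℓ) k :=
  of fun m i => if (i : ℕ) = m + 1 then (ℓ : k) - ((i : ℕ) : k) else 0

variable {k} {ℓ}

/-- The torus element acting with ratio `a`. -/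
def torus (μ a : k) : Matrix (Fin ℓ) (Fin ℓ) k := diagonal fun i => μ * a ^ (i : ℕ)

theorem blockA_mul_triN_apply (m i : Fin ℓ) :
    (blockA k ℓ * triN k ℓ) m i = (((m : ℕ) : k) - ((i : ℕ) : k)) * blockA k ℓ m i := by
  rw [Matrix.mul_apply]
  by_cases h : (i : ℕ) + 1 < ℓ
  · rw [Finset.sum_eq_single ⟨(i : ℕ) + 1, h⟩]
    · simp only [blockA, triN, of_apply, if_pos]
      have h1 := Nat.choose_succ_right_eq (m : ℕ) (i : ℕ)
      rcases le_or_gt (i : ℕ) (m : ℕ) with hle | hlt
      · have h2 := congrArg (fun n : ℕ => (n : k)) h1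
        push_cast [Nat.cast_sub hle] at h2
        linear_combination h2
      · rw [Nat.choose_eq_zero_of_lt hlt, Nat.choose_eq_zero_of_lt (by omega)]
        simp
    · intro b _ hb
      simp only [triN, of_apply]
      rw [if_neg fun e => hb (Fin.ext e), mul_zero]
    · simp
  · rw [Finset.sum_eq_zero]
    · rcases lt_or_eq_of_le (show (m : ℕ) ≤ i by omega) with hlt | heq
      · simp [blockA, Nat.choose_eq_zero_of_lt hlt]
      · simp [blockA, heq]
    · intro b _
      simp only [triN, of_apply]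
      rw [if_neg (by omega), mul_zero]

theorem triN_mul_blockA : triN k ℓ * blockA k ℓ = blockA k ℓ * triN k ℓ := by
  ext m i
  rw [blockA_mul_triN_apply, Matrix.mul_apply]
  obtain ⟨m, hm⟩ := m
  rcases m with _ | m
  · rw [Finset.sum_eq_zero (fun b _ => by simp [triN])]
    simp only [blockA, of_apply]
    rcases Nat.eq_zero_or_pos (i : ℕ) with h | h
    · simp [h]
    · simp [Nat.choose_eq_zero_of_lt h]
  · rw [Finset.sum_eq_single ⟨m, by omega⟩]
    · simp only [blockA, triN, of_apply, if_pos]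
      have h1 := Nat.choose_mul_succ_eq m (i : ℕ)
      rcases le_or_gt (i : ℕ) (m + 1) with hle | hlt
      · have h2 := congrArg (fun n : ℕ => (n : k)) h1
        push_cast [Nat.cast_sub hle] at h2 ⊢
        linear_combination h2
      · rw [Nat.choose_eq_zero_of_lt hlt, Nat.choose_eq_zero_of_lt (by omega)]
        simp
    · intro b _ hb
      simp only [triN, of_apply]
      rw [if_neg fun e => hb (Fin.ext (by simp only at e ⊢; omega)), zero_mul]
    · simp

theorem blockA_mul_triH : blockA k ℓ * triH k ℓ =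
    (triH k ℓ + 2 • triN k ℓ) * blockA k ℓ := by
  ext m i
  rw [add_mul, Matrix.smul_mul, triN_mul_blockA, Matrix.add_apply, Matrix.smul_apply,
    blockA_mul_triN_apply, triH, mul_diagonal, diagonal_mul, nsmul_eq_mul]
  push_cast
  ring

theorem blockA_mul_triF : blockA k ℓ * triF k ℓ =
    (triF k ℓ - triH k ℓ - triN k ℓ) * blockA k ℓ := by
  ext m i
  rw [sub_mul, sub_mul, triN_mul_blockA, Matrix.sub_apply, Matrix.sub_apply,
    blockA_mul_triN_apply, triH, diagonal_mul]
  have hF : (triF k ℓ * blockA k ℓ) m i =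
      ((ℓ : k) - ((m : ℕ) : k) - 1) * ((((m : ℕ) + 1).choose i : ℕ) : k) := by
    rw [Matrix.mul_apply]
    by_cases h : (m : ℕ) + 1 < ℓ
    · rw [Finset.sum_eq_single ⟨(m : ℕ) + 1, h⟩]
      · simp only [triF, blockA, of_apply, if_pos]
        push_cast; ring
      · intro b _ hb
        simp only [triF, of_apply]
        rw [if_neg fun e => hb (Fin.ext e), zero_mul]
      · simp
    · rw [Finset.sum_eq_zero]
      · have : ((ℓ : ℕ) : k) = ((m : ℕ) : k) + 1 := by
          have e := congrArg (Nat.cast : ℕ → k) (show ℓ = (m : ℕ) + 1 by omega)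
          push_cast at e; exact e
        rw [this]; ring
      · intro b _
        simp only [triF, of_apply]
        rw [if_neg (by omega), zero_mul]
  rw [hF, Matrix.mul_apply]
  obtain ⟨i, hi⟩ := i
  rcases i with _ | i
  · rw [Finset.sum_eq_zero (fun b _ => by simp [triF])]
    simp only [blockA, of_apply, Nat.choose_zero_right]
    push_cast; ring
  · rw [Finset.sum_eq_single ⟨i, by omega⟩]
    · simp only [triF, blockA, of_apply, if_pos, Nat.choose_succ_succ, Nat.succ_eq_add_one]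
      have h1 := Nat.choose_succ_right_eq (m : ℕ) i
      rcases le_or_gt i (m : ℕ) with hle | hlt
      · have h2 := congrArg (fun n : ℕ => (n : k)) h1
        push_cast [Nat.cast_sub hle] at h2 ⊢
        linear_combination -h2
      · simp [Nat.choose_eq_zero_of_lt hlt, Nat.choose_eq_zero_of_lt (show (m : ℕ) < i + 1 by omega)]
    · intro b _ hb
      simp only [triF, of_apply]
      rw [if_neg fun e => hb (Fin.ext (by simp only at e ⊢; omega)), mul_zero]
    · simp

theorem torus_mul_triN (μ a : k) :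
    torus μ a * triN k ℓ = a • (triN k ℓ * torus μ a) := by
  ext m i
  rw [torus, Matrix.smul_apply, mul_diagonal, diagonal_mul, triN, of_apply, smul_eq_mul]
  split_ifs with h
  · rw [h, pow_succ]; ring
  · ring

theorem torus_mul_triH (μ a : k) : torus μ a * triH k ℓ = triH k ℓ * torus μ a := by
  ext m i
  rw [torus, triH, diagonal_mul_diagonal, diagonal_mul_diagonal]
  by_cases h : m = i
  · subst h; simp [mul_comm]
  · simp [diagonal_apply_ne _ h]

theorem torus_mul_triF (μ a : k) :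
    a • (torus μ a * triF k ℓ) = triF k ℓ * torus μ a := by
  ext m i
  rw [torus, Matrix.smul_apply, mul_diagonal, diagonal_mul, triF, of_apply, smul_eq_mul]
  split_ifs with h
  · rw [h, pow_succ]; ring
  · ring

/-- The span of the triple, as a coefficient map. -/
def tri (ℓ : ℕ) (c : Fin 3 → k) : Matrix (Fin ℓ) (Fin ℓ) k :=
  c 0 • triF k ℓ + c 1 • (-triH k ℓ) + c 2 • (-triN k ℓ)

def hval (k : Type*) [Field k] (ℓ : ℕ) : k := ∑ i : Fin ℓ, ((ℓ : k) - 1 - 2 * ((i : ℕ) : k)) ^ 2

theorem three_mul_hval : 3 * hval k ℓ = (ℓ : k) * ((ℓ : k) ^ 2 - 1) := by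
  have hs : ∀ n : ℕ, 3 * (∑ i ∈ Finset.range n, ((ℓ : k) - 1 - 2 * (i : k)) ^ 2) =
      3 * n * ((ℓ : k) - 1) ^ 2 - 6 * ((ℓ : k) - 1) * n * ((n : k) - 1) +
        2 * n * ((n : k) - 1) * (2 * (n : k) - 1) := by
    intro n
    induction n with
    | zero => simp
    | succ n ih =>
      rw [Finset.sum_range_succ, mul_add, ih]
      push_cast
      ring
  rw [hval, Fin.sum_univ_eq_sum_range (fun i => ((ℓ : k) - 1 - 2 * (i : k)) ^ 2) ℓ, hs]
  ring

theorem hval_ne_zero {p : ℕ} [CharP k p] (hp : p.Prime) (hℓ : 2 ≤ ℓ) (hℓp : ℓ + 2 ≤ p) :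
    hval k ℓ ≠ 0 := by
  intro h
  have h1 := three_mul_hval (k := k) (ℓ := ℓ)
  rw [h, mul_zero] at h1
  have hne : ∀ n : ℕ, 0 < n → n < p → (n : k) ≠ 0 := fun n h0 h1 e => by
    have := Nat.le_of_dvd h0 ((CharP.cast_eq_zero_iff k p n).mp e)
    omega
  rcases mul_eq_zero.mp h1.symm with h2 | h2
  · exact hne ℓ (by omega) (by omega) h2
  · have h3 : ((ℓ : k) - 1) * ((ℓ : k) + 1) = 0 := by linear_combination h2
    rcases mul_eq_zero.mp h3 with h4 | h4
    · exact hne (ℓ - 1) (by omega) (by omega) (by rw [Nat.cast_sub (by omega)]; simpa using h4)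
    · exact hne (ℓ + 1) (by omega) (by omega) (by push_cast; exact h4)

theorem trace_triH_mul_triH : Matrix.trace (triH k ℓ * triH k ℓ) = hval k ℓ := by
  rw [triH, diagonal_mul_diagonal, Matrix.trace_diagonal, hval]
  exact Finset.sum_congr rfl fun i _ => by ring

theorem trace_triN_mul_diagonal (d : Fin ℓ → k) :
    Matrix.trace (triN k ℓ * diagonal d) = 0 := by
  refine Finset.sum_eq_zero fun i _ => ?_
  rw [Matrix.diag_apply, mul_diagonal, triN, of_apply, if_neg (by omega), zero_mul]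

theorem trace_triF_mul_diagonal (d : Fin ℓ → k) :
    Matrix.trace (triF k ℓ * diagonal d) = 0 := by
  refine Finset.sum_eq_zero fun i _ => ?_
  rw [Matrix.diag_apply, mul_diagonal, triF, of_apply, if_neg (by omega), zero_mul]

theorem trace_triN_sq : Matrix.trace (triN k ℓ * triN k ℓ) = 0 := by
  refine Finset.sum_eq_zero fun i _ => ?_
  rw [Matrix.diag_apply, Matrix.mul_apply]
  refine Finset.sum_eq_zero fun b _ => ?_
  simp only [triN, of_apply]
  split_ifs with h1 h2 <;> first | omega | simp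

theorem trace_triF_sq : Matrix.trace (triF k ℓ * triF k ℓ) = 0 := by
  refine Finset.sum_eq_zero fun i _ => ?_
  rw [Matrix.diag_apply, Matrix.mul_apply]
  refine Finset.sum_eq_zero fun b _ => ?_
  simp only [triF, of_apply]
  split_ifs with h1 h2 <;> first | omega | simp

theorem two_mul_trace_NF : 2 * Matrix.trace (triN k ℓ * triF k ℓ) = hval k ℓ := by
  have hd : ∀ i : Fin ℓ, (triN k ℓ * triF k ℓ) i i = ((i : ℕ) : k) * ((ℓ : k) - ((i : ℕ) : k)) := by
    rintro ⟨i, hi⟩
    rw [Matrix.mul_apply]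
    rcases i with _ | i
    · rw [Finset.sum_eq_zero (fun b _ => by simp [triN])]
      simp
    · rw [Finset.sum_eq_single ⟨i, by omega⟩]
      · simp [triN, triF]
      · intro b _ hb
        simp only [triN, of_apply]
        rw [if_neg fun e => hb (Fin.ext (by simp only at e ⊢; omega)), zero_mul]
      · simp
  have hs : ∀ n : ℕ, 2 * (∑ i ∈ Finset.range n, (i : k) * ((ℓ : k) - (i : k))) -
      (∑ i ∈ Finset.range n, ((ℓ : k) - 1 - 2 * (i : k)) ^ 2) =
      - (((ℓ : k) - 1) ^ 2) * n + (3 * (ℓ : k) - 2) * n * ((n : k) - 1) -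
        n * ((n : k) - 1) * (2 * (n : k) - 1) := by
    intro n
    induction n with
    | zero => simp
    | succ n ih =>
      rw [Finset.sum_range_succ, Finset.sum_range_succ]
      push_cast
      linear_combination ih
  have h := hs ℓ
  simp only [Matrix.trace, Matrix.diag_apply, hd]
  rw [Fin.sum_univ_eq_sum_range (fun i => (i : k) * ((ℓ : k) - (i : k))) ℓ, hval,
    Fin.sum_univ_eq_sum_range (fun i => ((ℓ : k) - 1 - 2 * (i : k)) ^ 2) ℓ]
  rw [← sub_eq_zero, h]
  ring

variable (k ℓ) in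
/-- Coordinates of the trace projection to the span of the triple. -/
noncomputable def coord : Matrix (Fin ℓ) (Fin ℓ) k →ₗ[k] (Fin 3 → k) :=
  LinearMap.pi ![(2 / hval k ℓ) • (Matrix.traceLinearMap (Fin ℓ) k k).comp (LinearMap.mulRight k (triN k ℓ)),
    -((1 / hval k ℓ) • (Matrix.traceLinearMap (Fin ℓ) k k).comp (LinearMap.mulRight k (triH k ℓ))),
    -((2 / hval k ℓ) • (Matrix.traceLinearMap (Fin ℓ) k k).comp (LinearMap.mulRight k (triF k ℓ)))]

variable (k ℓ) in
def triMap : (Fin 3 → k) →ₗ[k] Matrix (Fin ℓ) (Fin ℓ) k where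
  toFun := tri ℓ
  map_add' a b := by simp only [tri, Pi.add_apply, add_smul]; abel
  map_smul' a b := by simp [tri, mul_smul, smul_add]

@[simp] theorem triMap_apply (c : Fin 3 → k) : triMap k ℓ c = tri ℓ c := rfl

theorem coord_apply (X : Matrix (Fin ℓ) (Fin ℓ) k) :
    coord k ℓ X = ![2 / hval k ℓ * Matrix.trace (X * triN k ℓ),
      -(1 / hval k ℓ * Matrix.trace (X * triH k ℓ)),
      -(2 / hval k ℓ * Matrix.trace (X * triF k ℓ))] := by
  funext i
  fin_cases i <;> simp [coord]

theorem coord_tri (h : hval k ℓ ≠ 0) (c : Fin 3 → k) : coord k ℓ (tri ℓ c) = c := by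
  have hNH : Matrix.trace (triN k ℓ * triH k ℓ) = 0 := trace_triN_mul_diagonal _
  have hFH : Matrix.trace (triF k ℓ * triH k ℓ) = 0 := trace_triF_mul_diagonal _
  have hHN : Matrix.trace (triH k ℓ * triN k ℓ) = 0 := by rw [Matrix.trace_mul_comm, hNH]
  have hHF : Matrix.trace (triH k ℓ * triF k ℓ) = 0 := by rw [Matrix.trace_mul_comm, hFH]
  have hNF := two_mul_trace_NF (k := k) (ℓ := ℓ)
  have hFN : Matrix.trace (triF k ℓ * triN k ℓ) = Matrix.trace (triN k ℓ * triF k ℓ) :=
    Matrix.trace_mul_comm _ _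
  rw [coord_apply]
  funext i
  fin_cases i <;>
    simp [tri, add_mul, Matrix.trace_add, Matrix.trace_smul, hNH, hFH, hHN, hHF, hFN,
      trace_triN_sq, trace_triF_sq, trace_triH_mul_triH] <;> field_simp
  · linear_combination c 0 * hNF
  · linear_combination c 2 * hNF

theorem trace_tri_coord_mul (h : hval k ℓ ≠ 0) (X : Matrix (Fin ℓ) (Fin ℓ) k) (c : Fin 3 → k) :
    Matrix.trace (tri ℓ (coord k ℓ X) * tri ℓ c) = Matrix.trace (X * tri ℓ c) := by
  have key : ∀ Y, Y = triN k ℓ ∨ Y = triH k ℓ ∨ Y = triF k ℓ →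
      Matrix.trace (tri ℓ (coord k ℓ X) * Y) = Matrix.trace (X * Y) := by
    have e := (coord_apply (tri ℓ (coord k ℓ X))).symm.trans
      ((coord_tri h (coord k ℓ X)).trans (coord_apply X))
    have h2' : (2 / hval k ℓ) ≠ 0 := div_ne_zero (fun e2 => h (by
      rw [← two_mul_trace_NF, e2, zero_mul])) h
    have h0 := congrFun e 0
    have h1 := congrFun e 1
    have h2 := congrFun e 2
    simp only [Matrix.cons_val, Matrix.cons_val_zero, Matrix.cons_val_one, neg_inj] at h0 h1 h2
    rintro Y (rfl | rfl | rfl)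
    · exact mul_left_cancel₀ h2' h0
    · exact mul_left_cancel₀ (one_div_ne_zero h) h1
    · exact mul_left_cancel₀ h2' h2
  rw [show tri ℓ c = c 0 • triF k ℓ + c 1 • (-triH k ℓ) + c 2 • (-triN k ℓ) from rfl]
  simp only [mul_add, mul_neg, Matrix.mul_smul, Matrix.trace_add, Matrix.trace_smul, Matrix.trace_neg,
    smul_neg, key _ (Or.inl rfl), key _ (Or.inr (Or.inl rfl)), key _ (Or.inr (Or.inr rfl))]

/-- The adjoint action of `A` on the triple. -/
def adA (k : Type*) [Field k] : Matrix (Fin 3) (Fin 3) k := !![1, 0, 0; 1, 1, 0; 1, 2, 1]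

theorem blockA_mul_tri (c : Fin 3 → k) :
    blockA k ℓ * tri ℓ c = tri ℓ (adA k *ᵥ c) * blockA k ℓ := by
  have e0 : (adA k *ᵥ c) 0 = c 0 := by simp [adA, Matrix.mulVec, dotProduct, Fin.sum_univ_three]
  have e1 : (adA k *ᵥ c) 1 = c 0 + c 1 := by
    simp [adA, Matrix.mulVec, dotProduct, Fin.sum_univ_three]
  have e2 : (adA k *ᵥ c) 2 = c 0 + 2 * c 1 + c 2 := by
    simp [adA, Matrix.mulVec, dotProduct, Fin.sum_univ_three]
  simp only [tri, e0, e1, e2, mul_add, add_mul, Matrix.mul_smul, Matrix.smul_mul, mul_neg, neg_mul,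
    blockA_mul_triH, blockA_mul_triF, ← triN_mul_blockA, sub_mul, smul_neg, smul_sub, smul_add,
    add_smul, two_mul, two_smul]
  abel

theorem torus_mul_tri (μ : k) {a : k} (ha : a ≠ 0) (c : Fin 3 → k) :
    torus μ a * tri ℓ c = tri ℓ ![c 0 / a, c 1, a * c 2] * (torus μ a : Matrix (Fin ℓ) (Fin ℓ) k) := by
  have hF : torus μ a * triF k ℓ = a⁻¹ • (triF k ℓ * torus μ a) := by
    rw [← torus_mul_triF, smul_smul, inv_mul_cancel₀ ha, one_smul]
  simp only [tri, mul_add, add_mul, Matrix.mul_smul, Matrix.smul_mul, mul_neg, neg_mul, hF,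
    torus_mul_triH, torus_mul_triN, smul_neg, smul_smul, Matrix.cons_val_zero, Matrix.cons_val_one,
    Matrix.cons_val]
  rw [div_eq_mul_inv, mul_comm a (c 2)]

/-- The projection commutes with conjugation by `C` whenever the triple is stable under it. -/
theorem coord_conj (h : hval k ℓ ≠ 0) {C D : Matrix (Fin ℓ) (Fin ℓ) k} (hDC : D * C = 1)
    (hCD : C * D = 1) (f g : (Fin 3 → k) → (Fin 3 → k)) (hf : ∀ c, C * tri ℓ c = tri ℓ (f c) * C)
    (hfg : ∀ c, f (g c) = c) (X : Matrix (Fin ℓ) (Fin ℓ) k) :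
    coord k ℓ (C * X * D) = f (coord k ℓ X) := by
  have hf' : ∀ c, tri ℓ (f c) = C * tri ℓ c * D := fun c => by
    rw [hf, mul_assoc, hCD, mul_one]
  have hg : ∀ c, D * tri ℓ c * C = tri ℓ (g c) := fun c => by
    have := hf (g c)
    rw [hfg] at this
    rw [mul_assoc, ← this, ← mul_assoc, hDC, one_mul]
  have key : ∀ c, Matrix.trace (C * X * D * tri ℓ c) = Matrix.trace (tri ℓ (f (coord k ℓ X)) * tri ℓ c) := by
    intro c
    have e1 : ∀ Y : Matrix (Fin ℓ) (Fin ℓ) k,
        Matrix.trace (C * Y * D * tri ℓ c) = Matrix.trace (Y * tri ℓ (g c)) := fun Y => by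
      rw [← hg c, mul_assoc C, mul_assoc C, Matrix.trace_mul_comm C]
      simp only [mul_assoc]
    rw [e1, hf', e1, trace_tri_coord_mul h]
  have e : ∀ Y, Y = triN k ℓ ∨ Y = triH k ℓ ∨ Y = triF k ℓ →
      Matrix.trace (C * X * D * Y) = Matrix.trace (tri ℓ (f (coord k ℓ X)) * Y) := by
    have k0 := key ![1, 0, 0]
    have k1 := key ![0, 1, 0]
    have k2 := key ![0, 0, 1]
    have t0 : tri ℓ ![1, 0, 0] = triF k ℓ := by simp [tri]
    have t1 : tri ℓ ![0, 1, 0] = -triH k ℓ := by simp [tri]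
    have t2 : tri ℓ ![0, 0, 1] = -triN k ℓ := by simp [tri]
    rw [t0] at k0
    rw [t1, mul_neg, mul_neg, Matrix.trace_neg, Matrix.trace_neg, neg_inj] at k1
    rw [t2, mul_neg, mul_neg, Matrix.trace_neg, Matrix.trace_neg, neg_inj] at k2
    rintro Y (rfl | rfl | rfl)
    · exact k2
    · exact k1
    · exact k0
  rw [coord_apply, e _ (Or.inl rfl), e _ (Or.inr (Or.inl rfl)), e _ (Or.inr (Or.inr rfl)),
    ← coord_apply, coord_tri h]

theorem tri_coord_self_adjoint (h : hval k ℓ ≠ 0) (X Y : Matrix (Fin ℓ) (Fin ℓ) k) :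
    Matrix.trace (tri ℓ (coord k ℓ X) * Y) = Matrix.trace (X * tri ℓ (coord k ℓ Y)) := by
  rw [Matrix.trace_mul_comm _ Y, ← trace_tri_coord_mul h Y (coord k ℓ X), Matrix.trace_mul_comm,
    trace_tri_coord_mul h]

end Cfsg.Agent.SmallGroups.Mod
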