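import Cfsg.Agent.Lib.SmallGroups.SelfCent.Count
import Mathlib.RingTheory.Valuation.LocalSubring
import Mathlib.LinearAlgebra.Matrix.Adjugate
import Mathlib.LinearAlgebra.Matrix.NonsingularInverse

/-!
# Reduction of an irreducible character modulo a prime

In a basis of orbit vectors with determinant of largest value every matrix of the representation
has entries in the valuation ring.
-/

set_option autoImplicit false

namespace Cfsg.Agent.SmallGroups.Mod

open Matrix

variable {G : Type*} [Group G] [Fintype G]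

theorem exists_place (p : ℕ) [Fact p.Prime] :
    ∃ B : ValuationSubring ℂ, (p : B) ∈ IsLocalRing.maximalIdeal B := by
  let A : Subring ℂ := (Int.castRingHom ℂ).range
  have hne : Ideal.span ({(p : A)} : Set A) ≠ ⊤ := by
    intro h
    rw [Ideal.span_singleton_eq_top, isUnit_iff_exists_inv] at h
    obtain ⟨⟨b, m, rfl⟩, hb⟩ := h
    have h2 : ((p : ℤ) * m : ℤ) = 1 := by
      have := congrArg Subtype.val hb
      simp only [MulMemClass.coe_mul, SubringClass.coe_natCast, eq_intCast, OneMemClass.coe_one]
        at this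
      exact_mod_cast this
    rcases Int.eq_one_or_neg_one_of_mul_eq_one h2 with h3 | h3
    · exact (Fact.out : p.Prime).ne_one (by exact_mod_cast h3)
    · omega
  obtain ⟨B, hAB, hB⟩ := Ideal.image_subset_nonunits_valuationSubring _ hne
  refine ⟨B, ?_⟩
  have h := hB ⟨(p : A), Ideal.subset_span rfl, rfl⟩
  rw [SetLike.mem_coe, ValuationSubring.mem_nonunits_iff_exists_mem_maximalIdeal] at h
  obtain ⟨hm, h⟩ := h
  convert h using 1
  exact Subtype.ext (by simp)

/-- An integral form of an irreducible representation. -/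
theorem exists_integral (B : ValuationSubring ℂ) {m : ℕ} (ρ : Representation ℂ G (Fin m → ℂ))
    (hρ : ρ.IsIrreducible) :
    ∃ (σ : G →* Matrix (Fin m) (Fin m) B), ∀ g, σ g = 1 → ρ g = 1 := by
  classical
  let R : G →* Matrix (Fin m) (Fin m) ℂ :=
    { toFun := fun g => LinearMap.toMatrix' (ρ g)
      map_one' := by rw [map_one]; exact LinearMap.toMatrix'_one
      map_mul' := fun a b => by rw [map_mul]; exact LinearMap.toMatrix'_mul _ _ }
  have hR : ∀ g v, R g *ᵥ v = ρ g v := fun g v => by
    show LinearMap.toMatrix' (ρ g) *ᵥ v = ρ g v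
    rw [← Matrix.toLin'_apply, Matrix.toLin'_toMatrix']
  haveI : IsSimpleOrder (Subrepresentation ρ) := hρ
  obtain ⟨v, hv⟩ : ∃ v : Fin m → ℂ, v ≠ 0 := by
    by_contra h
    push Not at h
    exact bot_ne_top (α := Subrepresentation ρ)
      (SetLike.ext fun x => by
        rw [h x]; exact iff_of_true (Submodule.zero_mem (⊥ : Subrepresentation ρ).toSubmodule)
          (Submodule.zero_mem (⊤ : Subrepresentation ρ).toSubmodule))
  let W : Submodule ℂ (Fin m → ℂ) := Submodule.span ℂ (Set.range fun g => ρ g v)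
  have hW : W = ⊤ := by
    let S : Subrepresentation ρ :=
      { toSubmodule := W
        apply_mem_toSubmodule := fun g x hx => by
          have h1 : W.map (ρ g) ≤ W := by
            rw [Submodule.map_span_le]
            rintro _ ⟨a, rfl⟩
            exact Submodule.subset_span ⟨g * a, by simp [map_mul]⟩
          exact h1 ⟨x, hx, rfl⟩ }
    rcases IsSimpleOrder.eq_bot_or_eq_top S with h | h
    · exfalso
      refine hv ?_
      have : v ∈ W := Submodule.subset_span ⟨1, by simp⟩
      have h' : W = ⊥ := congrArg Subrepresentation.toSubmodule h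
      rwa [h', Submodule.mem_bot] at this
    · exact congrArg Subrepresentation.toSubmodule h
  let T : (Fin m → G) → Matrix (Fin m) (Fin m) ℂ := fun f => of fun i j => ρ (f j) v i
  obtain ⟨f₀, hf₀⟩ : ∃ f, (T f).det ≠ 0 := by
    obtain ⟨b, hb1, hb2, hb3⟩ := exists_linearIndependent ℂ (Set.range fun g => ρ g v)
    rw [show Submodule.span ℂ (Set.range fun g => ρ g v) = ⊤ from hW] at hb2
    let e := Module.Basis.mk hb3 (by rw [Subtype.range_coe]; exact hb2.ge)
    haveI : Fintype b := FiniteDimensional.fintypeBasisIndex e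
    have hc : Fintype.card b = m := by
      rw [← Module.finrank_eq_card_basis e, Module.finrank_fintype_fun_eq_card, Fintype.card_fin]
    let q : Fin m ≃ b := (Fintype.equivFinOfCardEq hc).symm
    choose g hg using fun x : b => hb1 x.2
    refine ⟨fun j => g (q j), fun h0 => ?_⟩
    have hli : LinearIndependent ℂ (fun j : Fin m => ρ (g (q j)) v) := by
      have : (fun j : Fin m => ρ (g (q j)) v) = (fun x : b => (x : Fin m → ℂ)) ∘ q :=
        funext fun j => hg (q j)
      rw [this]
      exact hb3.comp q q.injective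
    have hu := (Matrix.linearIndependent_cols_iff_isUnit (A := T fun j => g (q j))).mp hli
    exact ((Matrix.isUnit_iff_isUnit_det _).mp hu).ne_zero h0
  obtain ⟨f, -, hf⟩ := Finset.exists_max_image Finset.univ (fun f => B.valuation (T f).det)
    ⟨f₀, Finset.mem_univ _⟩
  set M := T f with hM
  have hdet : M.det ≠ 0 := by
    intro h0
    have := hf f₀ (Finset.mem_univ _)
    rw [h0, map_zero, le_zero_iff, map_eq_zero] at this
    exact hf₀ this
  have hMu : IsUnit M.det := isUnit_iff_ne_zero.mpr hdet
  have hmem : ∀ (a : G) i j, (M⁻¹ * R a * M) i j ∈ B := by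
    intro a i j
    have hcol : ∀ l, (R a * M) l j = ρ (a * f j) v l := by
      intro l
      rw [map_mul, Module.End.mul_apply, ← hR a]
      rfl
    have e1 : (M⁻¹ * R a * M) i j = M.det⁻¹ * (T (Function.update f i (a * f j))).det := by
      rw [mul_assoc, Matrix.inv_def, Matrix.smul_mul, Matrix.smul_apply, Ring.inverse_eq_inv',
        smul_eq_mul]
      congr 1
      have h1 := Matrix.cramer_eq_adjugate_mulVec M (fun l => ρ (a * f j) v l)
      have h2 : (M.adjugate * (R a * M)) i j = (M.adjugate *ᵥ fun l => ρ (a * f j) v l) i := by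
        rw [Matrix.mul_apply]
        exact Finset.sum_congr rfl fun l _ => by rw [hcol]
      rw [h2, ← h1, Matrix.cramer_apply]
      congr 1
      ext l c
      rw [Matrix.updateCol_apply]
      show _ = ρ (Function.update f i (a * f j) c) v l
      rcases eq_or_ne c i with rfl | hc
      · rw [if_pos rfl, Function.update_self]
      · rw [if_neg hc, Function.update_of_ne hc]; rfl
    rw [e1, ← B.valuation_le_one_iff, map_mul, map_inv₀, inv_mul_le_one₀
      (zero_lt_iff.mpr ((map_ne_zero _).mpr hdet))]
    exact hf _ (Finset.mem_univ _)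
  let σ₀ : G → Matrix (Fin m) (Fin m) B := fun a => of fun i j => ⟨_, hmem a i j⟩
  have hinj : Function.Injective (B.subtype.mapMatrix : Matrix (Fin m) (Fin m) B → _) :=
    fun X Y h => Matrix.ext fun i j => Subtype.ext (congrFun (congrFun h i) j)
  have hσ₀ : ∀ a, B.subtype.mapMatrix (σ₀ a) = M⁻¹ * R a * M := fun a => rfl
  let σ : G →* Matrix (Fin m) (Fin m) B :=
    { toFun := σ₀
      map_one' := hinj (by rw [hσ₀, map_one, mul_one, Matrix.nonsing_inv_mul _ hMu, map_one])
      map_mul' := fun a b => hinj (by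
        rw [map_mul B.subtype.mapMatrix, hσ₀, hσ₀, hσ₀, map_mul]
        simp only [mul_assoc]
        rw [← mul_assoc M M⁻¹, Matrix.mul_nonsing_inv _ hMu, one_mul]) }
  refine ⟨σ, fun a ha => ?_⟩
  have h1 : M⁻¹ * R a * M = 1 := by
    rw [← hσ₀, show σ₀ a = 1 from ha, map_one]
  have h2 : R a = 1 := by
    have := congrArg (fun X => M * X * M⁻¹) h1
    simp only [mul_one, ← mul_assoc, Matrix.mul_nonsing_inv _ hMu, one_mul] at this
    rwa [mul_assoc, Matrix.mul_nonsing_inv _ hMu, mul_one] at this
  exact LinearMap.ext fun x => by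
    rw [← hR, h2, Matrix.one_mulVec]; rfl

/-- The reduction of a nontrivial irreducible character of a simple group is faithful. -/
theorem exists_reduction [IsSimpleGroup G] (p : ℕ) [Fact p.Prime] {q : ℕ} (hq : q.Prime)
    (hqp : q ≠ p) (hqG : q ∣ Nat.card G) (χ : Cfsg.IrrCharacter G) (hχ : χ ≠ SelfCent.Setup.triv) :
    ∃ (k : Type) (_ : Field k) (_ : CharP k p)
      (ρ : G →* Matrix (Fin (SelfCent.Setup.deg χ)) (Fin (SelfCent.Setup.deg χ)) k),
      Function.Injective ρ := by
  classical
  obtain ⟨B, hpB⟩ := exists_place p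
  obtain ⟨m, ρ, hρ, hχρ⟩ := χ.2
  have hm : m = SelfCent.Setup.deg χ := by
    have h := (SelfCent.Setup.deg_spec χ).2.2
    rw [← hχρ, Representation.char_one, Module.finrank_fintype_fun_eq_card, Fintype.card_fin] at h
    exact_mod_cast h
  obtain ⟨σ, hσ⟩ := exists_integral B ρ hρ
  haveI hch : CharP (IsLocalRing.ResidueField B) p := by
    refine (CharP.charP_iff_prime_eq_zero (Fact.out : p.Prime)).mpr ?_
    have := (IsLocalRing.residue_eq_zero_iff _).mpr hpB
    rwa [map_natCast] at this
  let π := (IsLocalRing.residue B).mapMatrix (m := Fin m)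
  let ρ₁ : G →* Matrix (Fin m) (Fin m) (IsLocalRing.ResidueField B) := π.toMonoidHom.comp σ
  subst hm
  refine ⟨IsLocalRing.ResidueField B, inferInstance, hch, ρ₁, ?_⟩
  rcases (inferInstance : ρ₁.ker.Normal).eq_bot_or_eq_top with h | h
  · intro a b hab
    have h' : a * b⁻¹ ∈ ρ₁.ker := by
      rw [MonoidHom.mem_ker, map_mul, hab, ← map_mul, mul_inv_cancel, map_one]
    rw [h, Subgroup.mem_bot] at h'
    exact mul_inv_eq_one.mp h'
  exfalso
  haveI : Fact q.Prime := ⟨hq⟩
  obtain ⟨g, hg⟩ := exists_prime_orderOf_dvd_card' q hqG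
  have hg1 : g ≠ 1 := fun e => hq.ne_one (by rw [← hg, e, orderOf_one])
  set X := σ g with hX
  have hπX : π X = 1 := MonoidHom.mem_ker.mp (h ▸ Subgroup.mem_top g : g ∈ ρ₁.ker)
  have hXq : X ^ q = 1 := by rw [hX, ← map_pow, ← hg, pow_orderOf_eq_one, map_one]
  set S := ∑ i ∈ Finset.range q, X ^ i with hS
  have hS0 : S * (X - 1) = 0 := by rw [hS, geom_sum_mul, hXq, sub_self]
  have hπS : π S = (q : ℕ) • (1 : Matrix _ _ (IsLocalRing.ResidueField B)) := by
    rw [hS, map_sum]
    simp [hπX]
  have hSu : IsUnit S.det := by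
    rw [← IsLocalRing.residue_ne_zero_iff_isUnit, RingHom.map_det]
    show (π S).det ≠ 0
    rw [hπS, Matrix.det_smul_of_tower, Matrix.det_one, nsmul_eq_mul, mul_one, Nat.cast_pow]
    refine pow_ne_zero _ fun e => hqp ?_
    exact ((Nat.prime_dvd_prime_iff_eq (Fact.out : p.Prime) hq).mp
      ((CharP.cast_eq_zero_iff _ p q).mp e)).symm
  have hX1 : X = 1 := by
    have := congrArg (fun Y => S⁻¹ * Y) hS0
    simp only [← mul_assoc, Matrix.nonsing_inv_mul _ hSu, one_mul, mul_zero] at this
    exact sub_eq_zero.mp this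
  refine SelfCent.value_ne_deg hχ hg1 ?_
  rw [(SelfCent.Setup.deg_spec χ).2.2.symm, ← hχρ, Representation.character, hσ g hX1,
    Representation.char_one]
  simp

end Cfsg.Agent.SmallGroups.Mod
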