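import Cfsg.Agent.Lib.SmallGroups.Mod.Model
import Mathlib.Algebra.BigOperators.Ring.Finset
import Mathlib.Data.Nat.Choose.Sum
import Mathlib.Data.Nat.Prime.Factorial
import Mathlib.LinearAlgebra.Matrix.NonsingularInverse
import Mathlib.Tactic.Ring

/-!
# The invariant symmetric form of a block of odd size
-/

set_option autoImplicit false

namespace Cfsg.Agent.SmallGroups.Mod

open Matrix

variable (k : Type*) [Field k] (n : ℕ)

def antiVal (m : ℕ) : k := (-1) ^ m * (n.choose m : k)

/-- The form on a block of size `n + 1`. -/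
def formJ : Matrix (Fin (n + 1)) (Fin (n + 1)) k :=
  of fun m i => if (m : ℕ) + i = n then antiVal k n m else 0

def formJinv : Matrix (Fin (n + 1)) (Fin (n + 1)) k :=
  of fun m i => if (m : ℕ) + i = n then (antiVal k n i)⁻¹ else 0

variable {k} {n}

theorem antiVal_symm (hn : Even n) {m i : ℕ} (h : m + i = n) : antiVal k n i = antiVal k n m := by
  subst h
  have h2 : ((-1 : k)) ^ i = (-1) ^ m := by
    have h3 : ((-1 : k)) ^ (m + i) = 1 := hn.neg_one_pow
    rw [pow_add] at h3
    calc (-1 : k) ^ i = ((-1) ^ m * (-1) ^ m) * (-1) ^ i := by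
          rw [← mul_pow, neg_one_mul, neg_neg, one_pow, one_mul]
      _ = (-1) ^ m := by rw [mul_assoc, h3, mul_one]
  rw [antiVal, antiVal, h2, Nat.choose_symm_add]

theorem formJ_transpose (hn : Even n) : (formJ k n)ᵀ = formJ k n := by
  ext m i
  simp only [transpose_apply, formJ, of_apply]
  rw [add_comm (i : ℕ)]
  split_ifs with h
  · exact antiVal_symm hn h
  · rfl

theorem formJ_apply_mul (X : Matrix (Fin (n + 1)) (Fin (n + 1)) k) (m i : Fin (n + 1)) :
    (formJ k n * X) m i = antiVal k n m * X ⟨n - m, by omega⟩ i := by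
  rw [Matrix.mul_apply, Finset.sum_eq_single (⟨n - m, by omega⟩ : Fin (n + 1))]
  · simp only [formJ, of_apply]
    rw [if_pos (by omega)]
  · intro b _ hb
    simp only [formJ, of_apply]
    rw [if_neg fun e => hb (Fin.ext (by simp only; omega)), zero_mul]
  · simp

theorem formJ_mul_formJinv {p : ℕ} [CharP k p] (hp : p.Prime) (hnp : n < p) :
    formJ k n * formJinv k n = 1 := by
  ext m i
  rw [formJ_apply_mul]
  simp only [formJinv, of_apply]
  by_cases h : m = i
  · subst h
    rw [if_pos (by omega), Matrix.one_apply_eq]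
    refine mul_inv_cancel₀ (mul_ne_zero (pow_ne_zero _ (neg_ne_zero.mpr one_ne_zero)) fun e => ?_)
    have h1 : p ∣ n.factorial := by
      rw [← Nat.choose_mul_factorial_mul_factorial (show (m : ℕ) ≤ n by omega), mul_assoc]
      exact Dvd.dvd.mul_right ((CharP.cast_eq_zero_iff k p _).mp e) _
    have := hp.dvd_factorial.mp h1
    omega
  · rw [if_neg fun e => h (Fin.ext (by omega)), mul_zero, Matrix.one_apply_ne h]

theorem choose_cast_succ (m : ℕ) :
    (n.choose (m + 1) : k) * ((m : k) + 1) = (n.choose m : k) * ((n : k) - m) := by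
  rcases le_or_gt m n with h | h
  · have := congrArg (fun x : ℕ => (x : k)) (Nat.choose_succ_right_eq n m)
    push_cast [Nat.cast_sub h] at this
    exact this
  · simp [Nat.choose_eq_zero_of_lt h, Nat.choose_eq_zero_of_lt (show n < m + 1 by omega)]

theorem formJ_mul_tri_skew (hn : Even n) (c : Fin 3 → k) :
    (formJ k n * tri (n + 1) c)ᵀ = -(formJ k n * tri (n + 1) c) := by
  have hN : (formJ k n * triN k (n + 1))ᵀ = -(formJ k n * triN k (n + 1)) := by
    ext m i
    rw [transpose_apply, Matrix.neg_apply, formJ_apply_mul, formJ_apply_mul]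
    simp only [triN, of_apply]
    by_cases h : (m : ℕ) + i + 1 = n
    · rw [if_pos (by omega), if_pos (by omega)]
      have hs := antiVal_symm (k := k) hn (show ((m : ℕ) + 1) + i = n by omega)
      have hnk : (n : k) = ((m : ℕ) : k) + ((i : ℕ) : k) + 1 := by
        exact_mod_cast congrArg (Nat.cast : ℕ → k) h.symm
      have h1 := choose_cast_succ (k := k) (n := n) (m : ℕ)
      rw [hs]
      simp only [antiVal, pow_succ]
      rw [hnk] at h1
      linear_combination (-((-1 : k)) ^ (m : ℕ)) * h1
    · rw [if_neg (by omega), if_neg (by omega)]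
      simp
  have hH : (formJ k n * triH k (n + 1))ᵀ = -(formJ k n * triH k (n + 1)) := by
    ext m i
    rw [transpose_apply, Matrix.neg_apply, formJ_apply_mul, formJ_apply_mul]
    simp only [triH, diagonal_apply, Fin.ext_iff]
    by_cases h : (m : ℕ) + i = n
    · rw [if_pos (by omega), if_pos (by omega), antiVal_symm hn h]
      have hnk : (n : k) = ((m : ℕ) : k) + ((i : ℕ) : k) := by
        exact_mod_cast congrArg (Nat.cast : ℕ → k) h.symm
      rw [show ((n - (i : ℕ) : ℕ) : k) = ((m : ℕ) : k) by rw [show n - (i : ℕ) = (m : ℕ) by omega],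
        show ((n - (m : ℕ) : ℕ) : k) = ((i : ℕ) : k) by rw [show n - (m : ℕ) = (i : ℕ) by omega]]
      push_cast
      rw [hnk]; ring
    · rw [if_neg (by omega), if_neg (by omega)]
      simp
  have hF : (formJ k n * triF k (n + 1))ᵀ = -(formJ k n * triF k (n + 1)) := by
    ext m i
    rw [transpose_apply, Matrix.neg_apply, formJ_apply_mul, formJ_apply_mul]
    simp only [triF, of_apply]
    by_cases h : (m : ℕ) + i = n + 1
    · rw [if_pos (by omega), if_pos (by omega)]
      obtain ⟨m', hm'⟩ : ∃ m', (m : ℕ) = m' + 1 := ⟨(m : ℕ) - 1, by omega⟩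
      have hs := antiVal_symm (k := k) hn (show m' + (i : ℕ) = n by omega)
      have hnk : (n : k) = (m' : k) + ((i : ℕ) : k) := by
        exact_mod_cast congrArg (Nat.cast : ℕ → k) (show n = m' + (i : ℕ) by omega)
      have h1 := choose_cast_succ (k := k) (n := n) m'
      rw [hs, hm']
      simp only [antiVal, pow_succ]
      push_cast
      rw [hnk] at h1 ⊢
      linear_combination (-((-1 : k)) ^ m') * h1
    · rw [if_neg (by omega), if_neg (by omega)]
      simp
  simp only [tri, mul_add, Matrix.mul_smul, mul_neg, transpose_add, transpose_smul, transpose_neg,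
    hN, hH, hF, neg_neg, smul_neg, neg_add]

theorem tri_mul_formJinv_skew {p : ℕ} [CharP k p] (hp : p.Prime) (hnp : n < p) (hn : Even n)
    (c : Fin 3 → k) : (tri (n + 1) c * formJinv k n)ᵀ = -(tri (n + 1) c * formJinv k n) := by
  have h1 := formJ_mul_formJinv (k := k) hp hnp
  have h2 : formJinv k n * formJ k n = 1 := mul_eq_one_comm.mp h1
  have hs : (formJinv k n)ᵀ = formJinv k n := by
    have h3 : (formJinv k n)ᵀ * formJ k n = 1 := by
      rw [← formJ_transpose hn, ← transpose_mul, h1, transpose_one]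
    calc (formJinv k n)ᵀ = (formJinv k n)ᵀ * (formJ k n * formJinv k n) := by rw [h1, mul_one]
      _ = formJinv k n := by rw [← mul_assoc, h3, one_mul]
  have e : tri (n + 1) c * formJinv k n =
      formJinv k n * (formJ k n * tri (n + 1) c) * formJinv k n := by
    rw [← mul_assoc (formJinv k n), h2, one_mul]
  rw [e, transpose_mul, transpose_mul, hs, formJ_mul_tri_skew hn, neg_mul, mul_neg]
  simp only [mul_assoc]

theorem choose_three {i r m : ℕ} (hi : i ≤ m) (hm : m + r ≤ n) :
    n.choose m * m.choose i * (n - m).choose r =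
      n.choose i * (n - i).choose r * (n - i - r).choose (m - i) := by
  rw [Nat.choose_mul hi, mul_assoc, mul_assoc]
  congr 1
  have h1 : (n - i).choose (m - i) = (n - i).choose (n - m) := by
    rw [← Nat.choose_symm (show m - i ≤ n - i by omega)]
    congr 1; omega
  rw [h1, Nat.choose_mul (show r ≤ n - m by omega)]
  congr 1
  rw [← Nat.choose_symm (show n - m - r ≤ n - i - r by omega)]
  congr 1; omega

theorem blockA_formJ :
    (blockA k (n + 1))ᵀ * formJ k n * blockA k (n + 1) = formJ k n := by
  ext i r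
  rw [mul_assoc, Matrix.mul_apply]
  simp only [formJ_apply_mul, transpose_apply]
  simp only [blockA, of_apply, antiVal, formJ]
  rw [Fin.sum_univ_eq_sum_range (fun m => ((m.choose i : ℕ) : k) *
    ((-1) ^ m * (n.choose m : k) * (((n - m).choose r : ℕ) : k))) (n + 1)]
  by_cases hir : (i : ℕ) + r ≤ n
  swap
  · rw [if_neg (by omega)]
    refine Finset.sum_eq_zero fun m hm => ?_
    rw [Finset.mem_range] at hm
    rcases lt_or_ge m (i : ℕ) with h | h
    · simp [Nat.choose_eq_zero_of_lt h]
    · simp [Nat.choose_eq_zero_of_lt (show n - m < (r : ℕ) by omega)]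
  rw [← Finset.sum_subset (s₁ := Finset.Ico (i : ℕ) (n + 1 - r))
    (fun m hm => by
      rw [Finset.mem_Ico] at hm
      rw [Finset.mem_range]; omega)
    (fun m hm hm' => by
      rw [Finset.mem_range] at hm
      rw [Finset.mem_Ico] at hm'
      rcases lt_or_ge m (i : ℕ) with h | h
      · simp [Nat.choose_eq_zero_of_lt h]
      · simp [Nat.choose_eq_zero_of_lt (show n - m < (r : ℕ) by omega)]),
    Finset.sum_Ico_eq_sum_range]
  have e : ∀ t ∈ Finset.range (n + 1 - r - i),
      (((((i : ℕ) + t).choose i : ℕ)) : k) *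
        ((-1) ^ ((i : ℕ) + t) * (n.choose ((i : ℕ) + t) : k) *
          (((n - ((i : ℕ) + t)).choose r : ℕ) : k)) =
      ((n.choose i * (n - i).choose r : ℕ) : k) * (-1) ^ (i : ℕ) *
        ((((-1 : ℤ) ^ t * ((n - i - r).choose t : ℤ) : ℤ)) : k) := by
    intro t ht
    rw [Finset.mem_range] at ht
    have h := congrArg (fun x : ℕ => (x : k))
      (choose_three (n := n) (i := i) (r := r) (m := (i : ℕ) + t) (by omega) (by omega))
    rw [show (i : ℕ) + t - i = t by omega] at h
    push_cast at h ⊢
    rw [pow_add]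
    linear_combination ((-1 : k) ^ (i : ℕ) * (-1) ^ t) * h
  rw [Finset.sum_congr rfl e, ← Finset.mul_sum, ← Int.cast_sum,
    show n + 1 - (r : ℕ) - i = (n - i - r) + 1 by omega, Int.alternating_sum_range_choose]
  by_cases h : (i : ℕ) + r = n
  · rw [if_pos h, if_pos (by omega), show n - (i : ℕ) = r by omega, Nat.choose_self]
    push_cast; ring
  · rw [if_neg h, if_neg (by omega)]
    simp

theorem torus_formJ (μ a : k) : (torus μ a : Matrix (Fin (n + 1)) (Fin (n + 1)) k)ᵀ * formJ k n *
    torus μ a = (μ ^ 2 * a ^ n) • formJ k n := by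
  ext m i
  rw [torus, diagonal_transpose, mul_diagonal, diagonal_mul, Matrix.smul_apply, smul_eq_mul]
  simp only [formJ, of_apply]
  split_ifs with h
  · have e : a ^ n = a ^ (m : ℕ) * a ^ (i : ℕ) := by rw [← pow_add, h]
    rw [e]; ring
  · simp

end Cfsg.Agent.SmallGroups.Mod
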