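import Cfsg.Agent.Lib.SmallGroups.Mod.Chain
import Cfsg.Agent.Lib.SmallGroups.Mod.Lift
import Cfsg.Agent.Lib.SmallGroups.Mod.Skew
import Mathlib.LinearAlgebra.Matrix.ToLin
import Mathlib.RingTheory.Nilpotent.Basic
import Mathlib.FieldTheory.Finite.Basic
import Mathlib.LinearAlgebra.Eigenspace.Zero

/-!
# A three dimensional module from a small faithful module

If a group with a self-centralizing subgroup `⟨z⟩` of order `p` has a faithful module of
dimension at most `(p + 1) / 2` over a field of characteristic `p`, the adjoint `sl₂` of a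
largest block of `z` lifts to a three dimensional module with an invariant symmetric form.
-/

set_option autoImplicit false

namespace Cfsg.Agent.SmallGroups.Mod

open Matrix Finset

variable {k : Type*} [Field k] {p : ℕ} [Fact p.Prime] [CharP k p] {G : Type*} [Group G] [Finite G]

/-- The data of `z`, `w` and `⟨z, w⟩ = N(⟨z⟩)`. -/
structure Frob (G : Type*) [Group G] (p : ℕ) (k : Type*) [Field k] where
  z : G
  w : G
  A : ℕ
  e : ℕ
  H : Subgroup G
  hz : orderOf z = p
  he : 0 < e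
  hep : e < p
  hw : w ^ e = 1
  hwz : w * z = z ^ A * w
  ha : orderOf (A : k) = e
  hzH : z ∈ H
  hgen : ∀ h ∈ H, ∃ i j : ℕ, h = z ^ i * w ^ j
  hTI : ∀ g : G, g⁻¹ * z * g ∈ H → g ∈ H

theorem Frob.a_ne_zero (f : Frob G p k) : (f.A : k) ≠ 0 := fun h => by
  have h1 : (f.A : k) ^ f.e = 1 := by rw [← f.ha]; exact pow_orderOf_eq_one _
  rw [h, zero_pow f.he.ne'] at h1
  exact zero_ne_one h1

/-- A three dimensional summand carried over by the lifting theorem. -/
theorem stage {V : Type*} [AddCommGroup V] [Module k V] (f : Frob G p k)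
    (ρ : Representation k G V) (hD : (ρ f.z - 1) ^ (p - 1) = 0)
    (j : (Fin 3 → k) →ₗ[k] V) (r : V →ₗ[k] (Fin 3 → k)) (hrj : ∀ c, r (j c) = c)
    (hZj : ∀ c, ρ f.z (j c) = j (adA k *ᵥ c)) (hZr : ∀ v, r (ρ f.z v) = adA k *ᵥ r v)
    (M : Matrix (Fin 3) (Fin 3) k)
    (hWj : ∀ c, ρ f.w (j c) = j (M *ᵥ c)) (hWr : ∀ v, r (ρ f.w v) = M *ᵥ r v) :
    ∃ (R : G →* Matrix (Fin 3) (Fin 3) k) (j' : (Fin 3 → k) →ₗ[k] V)
      (r' : V →ₗ[k] (Fin 3 → k)), R f.z = adA k ∧ (∀ c, r' (j' c) = c) ∧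
      (∀ g c, ρ g (j' c) = j' (R g *ᵥ c)) ∧
      (∀ B : V → V → k, (∀ g v w, B (ρ g v) (ρ g w) = B v w) →
        (∀ v₁ v₂ w, B (v₁ + v₂) w = B v₁ w + B v₂ w) →
        (∀ v w₁ w₂, B v (w₁ + w₂) = B v w₁ + B v w₂) →
        (∀ v w, B (j (r v)) w = B v (j (r w))) →
        ∀ v w, B (j' (r' v)) w = B v (j' (r' w))) := by
  classical
  haveI : Fintype (G ⧸ f.H) := Fintype.ofFinite _
  let π : Module.End k V := j ∘ₗ r
  have hππ : π * π = π := LinearMap.ext fun v => by simp [π, hrj]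
  have hcz : Commute (ρ f.z) π := LinearMap.ext fun v => by simp [π, hZj, hZr]
  have hcw : Commute (ρ f.w) π := LinearMap.ext fun v => by simp [π, hWj, hWr]
  have hcomm : ∀ h ∈ f.H, Commute (ρ h) π := by
    intro h hh
    obtain ⟨a, b, rfl⟩ := f.hgen h hh
    rw [map_mul, map_pow, map_pow]
    exact (hcz.pow_left a).mul_left (hcw.pow_left b)
  obtain ⟨E, u, hEE, hEG, huz, hEu, hEB⟩ :=
    exists_lift ρ f.hz f.H f.hzH f.hTI hD π hππ hcomm
  let j' : (Fin 3 → k) →ₗ[k] V := (u : Module.End k V) ∘ₗ j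
  let r' : V →ₗ[k] (Fin 3 → k) := r ∘ₗ (↑(u⁻¹) : Module.End k V)
  have huu : ∀ v, (↑(u⁻¹) : Module.End k V) ((u : Module.End k V) v) = v := fun v => by
    rw [← Module.End.mul_apply, u.inv_mul]; rfl
  have huu' : ∀ v, (u : Module.End k V) ((↑(u⁻¹) : Module.End k V) v) = v := fun v => by
    rw [← Module.End.mul_apply, u.mul_inv]; rfl
  have hrj' : ∀ c, r' (j' c) = c := fun c => by simp [r', j', huu, hrj]
  have hE : ∀ v, E v = j' (r' v) := by
    intro v
    have := congrArg (fun φ : Module.End k V => φ ((↑(u⁻¹) : Module.End k V) v)) hEu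
    simp only [Module.End.mul_apply, huu'] at this
    rw [this]; rfl
  have hfix : ∀ c, E (j' c) = j' c := fun c => by rw [hE, hrj']
  have hmove : ∀ g c, ρ g (j' c) = j' (r' (ρ g (j' c))) := by
    intro g c
    rw [← hE]
    have := congrArg (fun φ : Module.End k V => φ (j' c)) (hEG g).eq
    simp only [Module.End.mul_apply, hfix] at this
    exact this
  have hR : ∀ g c, LinearMap.toMatrix' (r' ∘ₗ ρ g ∘ₗ j') *ᵥ c = r' (ρ g (j' c)) := fun g c => by
    rw [← Matrix.toLin'_apply, Matrix.toLin'_toMatrix']; rfl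
  let R : G →* Matrix (Fin 3) (Fin 3) k :=
    { toFun := fun g => LinearMap.toMatrix' (r' ∘ₗ ρ g ∘ₗ j')
      map_one' := by
        refine Matrix.ext_of_mulVec_single fun i => ?_
        rw [hR, map_one, Matrix.one_mulVec]
        exact hrj' _
      map_mul' := fun a b => by
        refine Matrix.ext_of_mulVec_single fun i => ?_
        rw [hR, ← Matrix.mulVec_mulVec, hR, hR, ← hmove b, map_mul, Module.End.mul_apply] }
  refine ⟨R, j', r', ?_, hrj', fun g c => ?_, ?_⟩
  · refine Matrix.ext_of_mulVec_single fun i => ?_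
    show LinearMap.toMatrix' (r' ∘ₗ ρ f.z ∘ₗ j') *ᵥ _ = _
    rw [hR]
    have := congrArg (fun φ : Module.End k V => φ (j (Pi.single i 1))) huz.eq
    simp only [Module.End.mul_apply] at this
    show r ((↑(u⁻¹) : Module.End k V) (ρ f.z ((u : Module.End k V) (j (Pi.single i 1))))) = _
    rw [this, huu, hZr, hrj]
  · show _ = j' (LinearMap.toMatrix' (r' ∘ₗ ρ g ∘ₗ j') *ᵥ c)
    rw [hR]; exact hmove g c
  · intro B h1 h2 h3 h4 v w
    rw [← hE, ← hE]
    exact hEB B h1 h2 h3 h4 v w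

variable (k) in
/-- The invariant form of the adjoint module. -/
def form3 : Matrix (Fin 3) (Fin 3) k := !![0, 0, 1; 0, -2, 0; 1, 0, 0]

/-- Multiplication on both sides by rectangular matrices. -/
def sandwich {a b c e : Type*} [Fintype b] [Fintype c] (P : Matrix a b k) (Q : Matrix c e k) :
    Matrix b c k →ₗ[k] Matrix a e k where
  toFun X := P * X * Q
  map_add' X Y := by rw [Matrix.mul_add, Matrix.add_mul]
  map_smul' t X := by rw [Matrix.mul_smul, Matrix.smul_mul]; rfl

@[simp] theorem sandwich_apply {a b c e : Type*} [Fintype b] [Fintype c] (P : Matrix a b k)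
    (Q : Matrix c e k) (X : Matrix b c k) : sandwich P Q X = P * X * Q := rfl

/-- The conjugation representation. -/
def adRep {d : ℕ} (ρ : G →* Matrix (Fin d) (Fin d) k) :
    Representation k G (Matrix (Fin d) (Fin d) k) where
  toFun g := sandwich (ρ g) (ρ g⁻¹)
  map_one' := LinearMap.ext fun X => by simp
  map_mul' a b := LinearMap.ext fun X => by simp [Matrix.mul_assoc]

omit [Finite G] in
theorem adRep_apply {d : ℕ} (ρ : G →* Matrix (Fin d) (Fin d) k) (g : G)
    (X : Matrix (Fin d) (Fin d) k) : adRep ρ g X = ρ g * X * ρ g⁻¹ := rfl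

omit [Fact p.Prime] [CharP k p] in
theorem adRep_nilpotent {d : ℕ} (ρ : G →* Matrix (Fin d) (Fin d) k) {z : G} {ℓ N : ℕ}
    (hD : (ρ z - 1) ^ ℓ = 0) (hN : ℓ + ℓ ≤ N + 1) : (adRep ρ z - 1) ^ N = 0 := by
  let L : Module.End k (Matrix (Fin d) (Fin d) k) := LinearMap.mulLeft k (ρ z)
  let Rr : Module.End k (Matrix (Fin d) (Fin d) k) := LinearMap.mulRight k (ρ z⁻¹)
  have h0 : adRep ρ z - 1 = LinearMap.mulLeft k (ρ z - 1) * Rr + LinearMap.mulRight k (ρ z⁻¹ - 1) :=
    LinearMap.ext fun X => by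
      simp only [Rr, LinearMap.sub_apply, LinearMap.add_apply, Module.End.one_apply,
        Module.End.mul_apply, LinearMap.mulLeft_apply, LinearMap.mulRight_apply, adRep_apply]
      noncomm_ring
  rw [h0]
  have hc : ∀ a b : Matrix (Fin d) (Fin d) k,
      Commute (LinearMap.mulLeft k a) (LinearMap.mulRight k b) :=
    fun a b => LinearMap.commute_mulLeft_right a b
  have hi : ρ z⁻¹ * ρ z = 1 := by rw [← map_mul, inv_mul_cancel, map_one]
  have hi' : ρ z * ρ z⁻¹ = 1 := by rw [← map_mul, mul_inv_cancel, map_one]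
  have hD' : (ρ z⁻¹ - 1) ^ ℓ = 0 := by
    have hcm : Commute (-ρ z⁻¹) (ρ z - 1) :=
      ((show Commute (ρ z⁻¹) (ρ z) from hi.trans hi'.symm).sub_right (Commute.one_right _)).neg_left
    have e : ρ z⁻¹ - 1 = -ρ z⁻¹ * (ρ z - 1) := by rw [neg_mul, mul_sub, hi, mul_one]; abel
    rw [e, hcm.mul_pow, hD, mul_zero]
  refine Commute.add_pow_eq_zero_of_add_le_succ_of_pow_eq_zero (m := ℓ) (n := ℓ) ?_ ?_ ?_ hN
  · refine Commute.mul_left (hc _ _) ?_
    refine LinearMap.ext fun X => ?_
    simp only [Rr, Module.End.mul_apply, LinearMap.mulRight_apply]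
    noncomm_ring
  · rw [(hc _ _).mul_pow, LinearMap.pow_mulLeft, hD, LinearMap.mulLeft_zero_eq_zero, zero_mul]
  · rw [LinearMap.pow_mulRight, hD', LinearMap.mulRight_zero_eq_zero]

omit [Fact p.Prime] [CharP k p] in
/-- Transport of a matrix `C` of the block to the conjugation representation. -/
theorem block_conj {ℓ d : ℕ} (hv : hval k ℓ ≠ 0) {ι : Matrix (Fin d) (Fin ℓ) k}
    {L : Matrix (Fin ℓ) (Fin d) k} (hLι : L * ι = 1) {Z Zi : Matrix (Fin d) (Fin d) k}
    (hi : Z * Zi = 1) {C : Matrix (Fin ℓ) (Fin ℓ) k} (h1 : Z * ι = ι * C) (h2 : L * Z = C * L)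
    (M Mi : Matrix (Fin 3) (Fin 3) k) (hMi : M * Mi = 1)
    (hM : ∀ c, C * tri ℓ c = tri ℓ (M *ᵥ c) * C) :
    (∀ c, Z * (ι * tri ℓ c * L) * Zi = ι * tri ℓ (M *ᵥ c) * L) ∧
      (∀ X, coord k ℓ (L * (Z * X * Zi) * ι) = M *ᵥ coord k ℓ (L * X * ι)) := by
  have hi2 : Zi * Z = 1 := mul_eq_one_comm.mp hi
  set D := L * Zi * ι with hDdef
  have hCD : C * D = 1 := by
    rw [hDdef, ← Matrix.mul_assoc, ← Matrix.mul_assoc, ← h2, Matrix.mul_assoc L, hi,
      Matrix.mul_one, hLι]
  have hDC : D * C = 1 := mul_eq_one_comm.mp hCD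
  have h3 : Zi * ι = ι * D := by
    calc Zi * ι = Zi * (ι * (C * D)) := by rw [hCD, Matrix.mul_one]
      _ = Zi * (Z * ι * D) := by rw [← Matrix.mul_assoc ι, h1]
      _ = Zi * Z * (ι * D) := by simp only [Matrix.mul_assoc]
      _ = ι * D := by rw [hi2, Matrix.one_mul]
  refine ⟨fun c => ?_, fun X => ?_⟩
  · calc Z * (ι * tri ℓ c * L) * Zi = (Z * ι) * tri ℓ c * L * Zi := by simp only [Matrix.mul_assoc]
      _ = ι * (C * tri ℓ c) * L * Zi := by rw [h1]; simp only [Matrix.mul_assoc]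
      _ = ι * tri ℓ (M *ᵥ c) * (L * Z) * Zi := by rw [hM, h2]; simp only [Matrix.mul_assoc]
      _ = ι * tri ℓ (M *ᵥ c) * L := by rw [Matrix.mul_assoc, Matrix.mul_assoc L, hi, Matrix.mul_one]
  · have e : L * (Z * X * Zi) * ι = C * (L * X * ι) * D := by
      calc L * (Z * X * Zi) * ι = (L * Z) * X * (Zi * ι) := by simp only [Matrix.mul_assoc]
        _ = C * (L * X * ι) * D := by rw [h2, h3]; simp only [Matrix.mul_assoc]
    rw [e]
    exact coord_conj hv hDC hCD (fun c => M *ᵥ c) (fun c => Mi *ᵥ c) hM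
      (fun c => by rw [Matrix.mulVec_mulVec, hMi, Matrix.one_mulVec]) _

theorem adA_inv : adA k * !![1, 0, 0; -1, 1, 0; 1, -2, 1] = 1 := by
  ext i j
  fin_cases i <;> fin_cases j <;>
    simp [adA, Matrix.mul_apply, Fin.sum_univ_three, Matrix.one_apply] <;> norm_num

theorem torus3_inv {a : k} (ha : a ≠ 0) :
    diagonal ![a⁻¹, 1, a] * diagonal ![a, 1, a⁻¹] = (1 : Matrix (Fin 3) (Fin 3) k) := by
  rw [diagonal_mul_diagonal, ← diagonal_one]
  congr 1
  funext i
  fin_cases i <;> simp [ha]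

theorem torus_mul_tri3 {ℓ : ℕ} (μ : k) {a : k} (ha : a ≠ 0) (c : Fin 3 → k) :
    torus μ a * tri ℓ c =
      tri ℓ (diagonal ![a⁻¹, 1, a] *ᵥ c) * (torus μ a : Matrix (Fin ℓ) (Fin ℓ) k) := by
  rw [torus_mul_tri μ ha]
  congr 2
  funext i
  rw [mulVec_diagonal]
  fin_cases i <;> simp [div_eq_inv_mul]

/-- The adjoint module with its form, from a block of size at most `p / 2`. -/
theorem exists_adjoint_small {d ℓ : ℕ} (f : Frob G p k) (ρ : G →* Matrix (Fin d) (Fin d) k)
    (hℓ : 2 ≤ ℓ) (hℓp : 2 * ℓ ≤ p) (hD : (ρ f.z - 1) ^ ℓ = 0)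
    (hD' : (ρ f.z - 1) ^ (ℓ - 1) ≠ 0) :
    ∃ R : G →* Matrix (Fin 3) (Fin 3) k,
      R f.z = adA k ∧ ∀ g, (R g)ᵀ * form3 k * R g = form3 k := by
  classical
  have hp : p.Prime := Fact.out
  have ha := f.a_ne_zero
  have hv : hval k ℓ ≠ 0 := hval_ne_zero hp hℓ (by omega)
  obtain ⟨μ, ι, L, -, hLι, hZι, hLZ, hWι, hLW⟩ := exists_block (k := k) (p := p) (by omega)
    (by omega) f.he f.hep hD hD' (W := ρ f.w) (by rw [← map_pow, f.hw, map_one]) (A := f.A)
    (by rw [← map_mul, f.hwz, map_mul, map_pow]) f.ha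
  obtain ⟨hz1, hz2⟩ := block_conj hv hLι (Z := ρ f.z) (Zi := ρ f.z⁻¹)
    (by rw [← map_mul, mul_inv_cancel, map_one]) hZι hLZ (adA k) _ adA_inv blockA_mul_tri
  obtain ⟨hw1, hw2⟩ := block_conj hv hLι (Z := ρ f.w) (Zi := ρ f.w⁻¹)
    (by rw [← map_mul, mul_inv_cancel, map_one]) hWι hLW _ _ (torus3_inv ha)
    (torus_mul_tri3 μ ha)
  let j : (Fin 3 → k) →ₗ[k] Matrix (Fin d) (Fin d) k := sandwich ι L ∘ₗ triMap k ℓ
  let r : Matrix (Fin d) (Fin d) k →ₗ[k] (Fin 3 → k) := coord k ℓ ∘ₗ sandwich L ι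
  have hrj : ∀ c, r (j c) = c := fun c => by
    show coord k ℓ (L * (ι * tri ℓ c * L) * ι) = c
    rw [show L * (ι * tri ℓ c * L) * ι = (L * ι) * tri ℓ c * (L * ι) by
      simp only [Matrix.mul_assoc], hLι, Matrix.one_mul, Matrix.mul_one, coord_tri hv]
  obtain ⟨R, j', r', hRz, hrj', hRg, hB⟩ := stage f (adRep ρ)
    (adRep_nilpotent ρ hD (by omega)) j r hrj hz1 hz2 (diagonal ![(f.A : k)⁻¹, 1, (f.A : k)])
    hw1 hw2
  let β : (Fin 3 → k) → (Fin 3 → k) → k := fun a b => Matrix.trace (j' a * j' b)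
  have hinv : ∀ g X Y, Matrix.trace (adRep ρ g X * adRep ρ g Y) = Matrix.trace (X * Y) := by
    intro g X Y
    rw [adRep_apply, adRep_apply, show ρ g * X * ρ g⁻¹ * (ρ g * Y * ρ g⁻¹) =
      ρ g * (X * (ρ g⁻¹ * ρ g) * Y * ρ g⁻¹) by simp only [Matrix.mul_assoc], ← map_mul,
      inv_mul_cancel, map_one, Matrix.mul_one, Matrix.trace_mul_comm, Matrix.mul_assoc,
      ← map_mul, inv_mul_cancel, map_one, Matrix.mul_one]
  have hsa := hB (fun X Y => Matrix.trace (X * Y)) hinv
    (fun X Y Z => by rw [Matrix.add_mul, Matrix.trace_add])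
    (fun X Y Z => by rw [Matrix.mul_add, Matrix.trace_add]) (fun X Y => by
      show Matrix.trace (ι * tri ℓ (coord k ℓ (L * X * ι)) * L * Y) =
        Matrix.trace (X * (ι * tri ℓ (coord k ℓ (L * Y * ι)) * L))
      rw [Matrix.mul_assoc (ι * _), Matrix.mul_assoc ι, Matrix.trace_mul_comm ι, Matrix.mul_assoc,
        tri_coord_self_adjoint hv, ← Matrix.mul_assoc X (ι * _) L, Matrix.trace_mul_comm _ L]
      simp only [Matrix.mul_assoc])
  have hinvβ : ∀ g a b, β (R g *ᵥ a) (R g *ᵥ b) = β a b := fun g a b => by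
    show Matrix.trace (j' (R g *ᵥ a) * j' (R g *ᵥ b)) = _
    rw [← hRg, ← hRg, hinv]
  have hnd : ∀ a, (∀ b, β a b = 0) → a = 0 := by
    intro a h
    have h1 : ∀ Y, Matrix.trace (j' a * Y) = 0 := fun Y => by
      have := hsa (j' a) Y
      simp only [hrj'] at this
      rw [this]; exact h _
    have h2 : j' a = 0 := Matrix.ext fun i l => by
      have := h1 (Matrix.single l i 1)
      rwa [Matrix.trace_mul_single, MulOpposite.op_one, one_smul] at this
    rw [← hrj' a, h2, map_zero]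
  -- the matrix of `β`
  let S : Matrix (Fin 3) (Fin 3) k := of fun a b => β (Pi.single a 1) (Pi.single b 1)
  have hS : ∀ a b, β a b = a ⬝ᵥ S *ᵥ b := by
    intro a b
    have ea : ∀ x : Fin 3 → k, j' x = ∑ i, x i • j' (Pi.single i 1) := fun x => by
      conv_lhs => rw [pi_eq_sum_univ' x]
      rw [map_sum]; simp [map_smul]
    show Matrix.trace (j' a * j' b) = _
    rw [ea a, ea b]
    simp only [Matrix.sum_mul, Matrix.mul_sum, Matrix.smul_mul, Matrix.mul_smul, Matrix.trace_sum,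
      Matrix.trace_smul, smul_eq_mul, dotProduct, Matrix.mulVec, S, of_apply, β, Finset.mul_sum]
    rw [Finset.sum_comm]
    refine Finset.sum_congr rfl fun x _ => Finset.sum_congr rfl fun y _ => ?_
    ring
  have hcol : ∀ (M : Matrix (Fin 3) (Fin 3) k) (a b : Fin 3),
      (Mᵀ * S * M) a b = β (M *ᵥ Pi.single a 1) (M *ᵥ Pi.single b 1) := by
    intro M a b
    rw [hS, Matrix.mulVec_single_one, Matrix.mulVec_single_one]
    simp [Matrix.mul_apply, dotProduct, Matrix.mulVec, Fin.sum_univ_three]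
    ring
  have hSinv : ∀ g, (R g)ᵀ * S * R g = S := fun g => Matrix.ext fun a b => by
    rw [hcol, hinvβ]; rfl
  have hsym : ∀ a b, S a b = S b a := fun a b => by
    simp only [S, of_apply, β]
    rw [Matrix.trace_mul_comm]
  have h2 : (2 : k) ≠ 0 := fun h => by
    have := Nat.le_of_dvd two_pos ((CharP.cast_eq_zero_iff k p 2).mp (by exact_mod_cast h))
    omega
  have hz := hSinv f.z
  rw [hRz] at hz
  have q21 := congrFun (congrFun hz 2) 1
  have q11 := congrFun (congrFun hz 1) 1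
  have q01 := congrFun (congrFun hz 0) 1
  have q00 := congrFun (congrFun hz 0) 0
  simp [adA, Matrix.mul_apply, Fin.sum_univ_three] at q21 q11 q01 q00
  simp only [hsym 1 0, hsym 2 0, hsym 2 1] at q21 q11 q01 q00
  have s22 : S 2 2 = 0 := by simpa [h2] using q21
  have s12 : S 1 2 = 0 := (mul_eq_zero.mp
    (show (2 : k) * (2 * S 1 2) = 0 by linear_combination q11 - 4 * s22)).resolve_left h2
    |> fun h => (mul_eq_zero.mp h).resolve_left h2
  have s11 : S 1 1 = -2 * S 0 2 := by linear_combination q01 - 3 * s12 - 2 * s22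
  have s01 : S 0 1 = 0 := (mul_eq_zero.mp
    (show (2 : k) * S 0 1 = 0 by linear_combination q00 - s11 - 2 * s12 - s22)).resolve_left h2
  have hb : S 0 2 ≠ 0 := by
    intro h
    have h3 : (Pi.single 2 1 : Fin 3 → k) = 0 := hnd _ fun b => by
      rw [hS]
      simp [dotProduct, Matrix.mulVec, Fin.sum_univ_three, hsym 2 0, hsym 2 1, h, s12, s22]
    simpa using congrFun h3 2
  set κ : k := -S 0 0 / (2 * S 0 2) with hκ
  let T : Matrix (Fin 3) (Fin 3) k := !![1, 0, 0; 0, 1, 0; κ, 0, 1]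
  let Ti : Matrix (Fin 3) (Fin 3) k := !![1, 0, 0; 0, 1, 0; -κ, 0, 1]
  have hT : T * Ti = 1 := by
    ext i j
    fin_cases i <;> fin_cases j <;> simp [T, Ti, Matrix.mul_apply, Fin.sum_univ_three]
  have hT' : Ti * T = 1 := mul_eq_one_comm.mp hT
  have hTS : Tᵀ * S * T = S 0 2 • form3 k := by
    ext i j
    fin_cases i <;> fin_cases j <;>
      simp [T, form3, Matrix.mul_apply, Fin.sum_univ_three, hsym 1 0, hsym 2 0, hsym 2 1, s22, s12,
        s11, s01, hκ] <;> field_simp <;> ring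
  let R' : G →* Matrix (Fin 3) (Fin 3) k :=
    { toFun := fun g => Ti * R g * T
      map_one' := by rw [map_one, Matrix.mul_one, hT']
      map_mul' := fun a b => by
        rw [map_mul, show Ti * R a * T * (Ti * R b * T) = Ti * R a * (T * Ti) * R b * T by
          simp only [Matrix.mul_assoc], hT, Matrix.mul_one]
        simp only [Matrix.mul_assoc] }
  refine ⟨R', ?_, fun g => ?_⟩
  · show Ti * R f.z * T = adA k
    rw [hRz]
    ext i j
    fin_cases i <;> fin_cases j <;> simp [T, Ti, adA, Matrix.mul_apply, Fin.sum_univ_three]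
  · refine smul_right_injective _ hb ?_
    show S 0 2 • ((Ti * R g * T)ᵀ * form3 k * (Ti * R g * T)) = S 0 2 • form3 k
    rw [← Matrix.smul_mul, ← Matrix.mul_smul, ← hTS, Matrix.transpose_mul, Matrix.transpose_mul]
    calc Tᵀ * ((R g)ᵀ * Tiᵀ) * (Tᵀ * S * T) * (Ti * R g * T)
        = Tᵀ * ((R g)ᵀ * ((Tiᵀ * Tᵀ) * S * (T * Ti)) * R g) * T := by
          simp only [Matrix.mul_assoc]
      _ = Tᵀ * S * T := by
          rw [hT, ← Matrix.transpose_mul, hT, Matrix.transpose_one, Matrix.one_mul, Matrix.mul_one,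
            hSinv, Matrix.mul_assoc]

theorem sum_range_pow_eq_zero {m : ℕ} (hm : m + 1 < p) :
    ∑ j ∈ Finset.range p, (j : k) ^ m = 0 := by
  have e : ∑ x : ZMod p, x ^ m = 0 :=
    FiniteField.sum_pow_lt_card_sub_one (ZMod p) m (by rw [ZMod.card]; omega)
  have h := congrArg (ZMod.castHom (dvd_refl p) k) e
  rw [map_sum, map_zero] at h
  simp only [map_pow] at h
  rw [← h]
  refine Finset.sum_nbij (fun j => (j : ZMod p)) (by simp) (fun a ha b hb hab => ?_) ?_ ?_
  · have ha' := Finset.mem_range.mp ha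
    have hb' := Finset.mem_range.mp hb
    exact CharP.natCast_injOn_Iio (ZMod p) p ha' hb' hab
  · intro x _
    exact ⟨x.val, by simp [ZMod.val_lt], ZMod.natCast_zmod_val x⟩
  · intro j _; simp

omit [Finite G] [Fact p.Prime] [CharP k p] in
/-- The representation on skew matrices. -/
theorem mem_skew_conj {d : ℕ} (ρ : G →* Matrix (Fin d) (Fin d) k) (g : G)
    {X : Matrix (Fin d) (Fin d) k} (hX : Xᵀ = -X) :
    (ρ g * X * (ρ g)ᵀ)ᵀ = -(ρ g * X * (ρ g)ᵀ) := by
  rw [transpose_mul, transpose_mul, transpose_transpose, hX]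
  simp [Matrix.mul_assoc]

/-- The skew matrices. -/
def skew (k : Type*) [Field k] (d : ℕ) : Submodule k (Matrix (Fin d) (Fin d) k) where
  carrier := {X | Xᵀ = -X}
  zero_mem' := by simp
  add_mem' := fun {X Y} (hX : Xᵀ = -X) (hY : Yᵀ = -Y) => by
    show (X + Y)ᵀ = -(X + Y)
    rw [transpose_add, hX, hY]; abel
  smul_mem' := fun t X (hX : Xᵀ = -X) => by
    show (t • X)ᵀ = -(t • X)
    rw [transpose_smul, hX, smul_neg]

/-- The action `X ↦ g X gᵀ` on skew matrices. -/
def skewRep {d : ℕ} (ρ : G →* Matrix (Fin d) (Fin d) k) : Representation k G (skew k d) where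
  toFun g := (sandwich (ρ g) (ρ g)ᵀ).restrict fun X hX => mem_skew_conj ρ g hX
  map_one' := LinearMap.ext fun X => Subtype.ext (by simp)
  map_mul' a b := LinearMap.ext fun X => Subtype.ext (by
    show ρ (a * b) * (X : Matrix _ _ k) * (ρ (a * b))ᵀ =
      ρ a * (ρ b * (X : Matrix _ _ k) * (ρ b)ᵀ) * (ρ a)ᵀ
    simp [Matrix.mul_assoc])

omit [Finite G] in
theorem skewRep_apply {d : ℕ} (ρ : G →* Matrix (Fin d) (Fin d) k) (g : G) (X : skew k d) :
    (skewRep ρ g X : Matrix (Fin d) (Fin d) k) = ρ g * X * (ρ g)ᵀ := rfl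

/-- The adjoint module from a single block of size `(p + 1) / 2`. -/
theorem exists_adjoint_half {n : ℕ} (f : Frob G p k)
    (ρ : G →* Matrix (Fin (n + 1)) (Fin (n + 1)) k) (hn : 2 * n + 1 = p) (hev : Even n)
    (hn2 : 1 ≤ n) (hD : (ρ f.z - 1) ^ (n + 1) = 0) (hD' : (ρ f.z - 1) ^ n ≠ 0) :
    ∃ R : G →* Matrix (Fin 3) (Fin 3) k, R f.z = adA k := by
  classical
  have hp : p.Prime := Fact.out
  have ha := f.a_ne_zero
  obtain ⟨m, hm⟩ := hev
  have hv : hval k (n + 1) ≠ 0 := hval_ne_zero hp (by omega) (by omega)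
  obtain ⟨μ, ι, L, hμ, hLι, hZι, hLZ, hWι, hLW⟩ := exists_block (k := k) (p := p) (ℓ := n + 1)
    (by omega) (by omega) f.he f.hep hD (by simpa using hD') (W := ρ f.w)
    (by rw [← map_pow, f.hw, map_one]) (A := f.A) (by rw [← map_mul, f.hwz, map_mul, map_pow]) f.ha
  have hιL : ι * L = 1 := mul_eq_one_comm.mp hLι
  set J := formJ k n
  set Ji := formJinv k n
  have hJ : J * Ji = 1 := formJ_mul_formJinv hp (by omega)
  have hJ' : Ji * J = 1 := mul_eq_one_comm.mp hJ
  -- the general equivariance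
  have key : ∀ (g : G) (C : Matrix (Fin (n + 1)) (Fin (n + 1)) k) (t : k), t ≠ 0 →
      ρ g * ι = ι * C → Cᵀ * J * C = t • J → ∀ (M Mi : Matrix (Fin 3) (Fin 3) k), M * Mi = 1 →
      (∀ c, C * tri (n + 1) c = tri (n + 1) (M *ᵥ c) * C) →
      (∀ c, ρ g * (ι * tri (n + 1) c * Ji * ιᵀ) * (ρ g)ᵀ =
        ι * tri (n + 1) ((t • M) *ᵥ c) * Ji * ιᵀ) ∧
      (∀ X, coord k (n + 1) (L * (ρ g * X * (ρ g)ᵀ) * Lᵀ * J) =
        (t • M) *ᵥ coord k (n + 1) (L * X * Lᵀ * J)) := by
    intro g C t ht h1 hJC M Mi hMi hM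
    have hgC : ρ g = ι * C * L := by
      rw [← h1, Matrix.mul_assoc, hιL, Matrix.mul_one]
    set D := L * ρ g⁻¹ * ι with hDdef
    have hCD : C * D = 1 := by
      have h2 : L * ρ g = C * L := by rw [hgC, ← Matrix.mul_assoc, ← Matrix.mul_assoc, hLι, Matrix.one_mul]
      rw [hDdef, ← Matrix.mul_assoc, ← Matrix.mul_assoc, ← h2, Matrix.mul_assoc L, ← map_mul,
        mul_inv_cancel, map_one, Matrix.mul_one, hLι]
    have hDC : D * C = 1 := mul_eq_one_comm.mp hCD
    have hCJ : C * Ji * Cᵀ = t • Ji := by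
      have h3 : (t⁻¹ • Cᵀ * J) * C * Ji = 1 := by
        rw [Matrix.smul_mul, Matrix.smul_mul, hJC, smul_smul, inv_mul_cancel₀ ht, one_smul, hJ]
      have h4 : C * Ji * (t⁻¹ • Cᵀ * J) = 1 := by
        rw [Matrix.mul_assoc (t⁻¹ • Cᵀ * J)] at h3
        exact mul_eq_one_comm.mp h3
      calc C * Ji * Cᵀ = t • (C * Ji * (t⁻¹ • Cᵀ * J) * Ji) := by
            simp only [Matrix.smul_mul, Matrix.mul_smul, smul_smul, mul_inv_cancel₀ ht, one_smul,
              Matrix.mul_assoc, hJ, Matrix.mul_one]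
        _ = t • Ji := by rw [h4, Matrix.one_mul]
    refine ⟨fun c => ?_, fun X => ?_⟩
    · rw [Matrix.smul_mulVec, show tri (n + 1) (t • (M *ᵥ c)) = t • tri (n + 1) (M *ᵥ c) from
        (triMap k (n + 1)).map_smul t _, hgC]
      calc ι * C * L * (ι * tri (n + 1) c * Ji * ιᵀ) * (ι * C * L)ᵀ
          = ι * C * (L * ι) * tri (n + 1) c * Ji * (ιᵀ * Lᵀ) * Cᵀ * ιᵀ := by
            simp only [Matrix.transpose_mul, Matrix.mul_assoc]
        _ = ι * (tri (n + 1) (M *ᵥ c) * C) * Ji * Cᵀ * ιᵀ := by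
            rw [← Matrix.transpose_mul, hLι, Matrix.transpose_one, Matrix.mul_one, Matrix.mul_one,
              ← hM]
            simp only [Matrix.mul_assoc]
        _ = ι * tri (n + 1) (M *ᵥ c) * (C * Ji * Cᵀ) * ιᵀ := by simp only [Matrix.mul_assoc]
        _ = ι * (t • tri (n + 1) (M *ᵥ c)) * Ji * ιᵀ := by
            rw [hCJ]; simp only [Matrix.mul_smul, Matrix.smul_mul]
    · have e : L * (ρ g * X * (ρ g)ᵀ) * Lᵀ * J = t • (C * (L * X * Lᵀ * J) * D) := by
        rw [hgC]
        calc L * (ι * C * L * X * (ι * C * L)ᵀ) * Lᵀ * J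
            = (L * ι) * C * L * X * Lᵀ * Cᵀ * (L * ι)ᵀ * J := by
              simp only [Matrix.transpose_mul, Matrix.mul_assoc]
          _ = C * (L * X * Lᵀ) * (Cᵀ * J * (C * D)) := by
              rw [hLι, hCD, Matrix.transpose_one, Matrix.one_mul, Matrix.mul_one, Matrix.mul_one]
              simp only [Matrix.mul_assoc]
          _ = C * (L * X * Lᵀ) * ((Cᵀ * J * C) * D) := by simp only [Matrix.mul_assoc]
          _ = t • (C * (L * X * Lᵀ * J) * D) := by
              rw [hJC]; simp only [Matrix.smul_mul, Matrix.mul_smul, Matrix.mul_assoc]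
      rw [e, map_smul, coord_conj hv hDC hCD (fun c => M *ᵥ c) (fun c => Mi *ᵥ c) hM
        (fun c => by rw [Matrix.mulVec_mulVec, hMi, Matrix.one_mulVec]), Matrix.smul_mulVec]
  obtain ⟨hz1, hz2⟩ := key f.z (blockA k (n + 1)) 1 one_ne_zero hZι
    (by rw [one_smul]; exact blockA_formJ) (adA k) _ adA_inv blockA_mul_tri
  obtain ⟨hw1, hw2⟩ := key f.w (torus μ (f.A : k)) (μ ^ 2 * (f.A : k) ^ n)
    (mul_ne_zero (pow_ne_zero _ hμ) (pow_ne_zero _ ha)) hWι (torus_formJ μ _) _ _ (torus3_inv ha)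
    (torus_mul_tri3 μ ha)
  simp only [one_smul] at hz1 hz2
  have hskew : ∀ c, ι * tri (n + 1) c * Ji * ιᵀ ∈ skew k (n + 1) := fun c => by
    show (_ : Matrix _ _ k)ᵀ = -_
    rw [Matrix.mul_assoc ι, transpose_mul, transpose_mul, transpose_transpose,
      tri_mul_formJinv_skew hp (by omega) ⟨m, hm⟩]
    simp [Ji, Matrix.mul_assoc]
  let j : (Fin 3 → k) →ₗ[k] skew k (n + 1) :=
    ((sandwich ι (Ji * ιᵀ)) ∘ₗ triMap k (n + 1)).codRestrict _ fun c => by
      show ι * tri (n + 1) c * (Ji * ιᵀ) ∈ _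
      rw [← Matrix.mul_assoc]; exact hskew c
  let r : skew k (n + 1) →ₗ[k] (Fin 3 → k) :=
    coord k (n + 1) ∘ₗ sandwich L (Lᵀ * J) ∘ₗ (skew k (n + 1)).subtype
  have hjc : ∀ c, (j c : Matrix _ _ k) = ι * tri (n + 1) c * Ji * ιᵀ := fun c => by
    show ι * tri (n + 1) c * (Ji * ιᵀ) = _
    rw [← Matrix.mul_assoc]
  have hrx : ∀ X : skew k (n + 1), r X = coord k (n + 1) (L * (X : Matrix _ _ k) * Lᵀ * J) :=
    fun X => by
      show coord k (n + 1) (L * (X : Matrix _ _ k) * (Lᵀ * J)) = _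
      rw [← Matrix.mul_assoc]
  have hrj : ∀ c, r (j c) = c := fun c => by
    rw [hrx, hjc, show L * (ι * tri (n + 1) c * Ji * ιᵀ) * Lᵀ * J =
      (L * ι) * tri (n + 1) c * Ji * (L * ι)ᵀ * J by
        simp only [Matrix.transpose_mul, Matrix.mul_assoc], hLι, Matrix.transpose_one,
      Matrix.one_mul, Matrix.mul_one, Matrix.mul_assoc, hJ', Matrix.mul_one, coord_tri hv]
  have hnil : (skewRep ρ f.z - 1) ^ (p - 1) = 0 := by
    haveI : CharP (Module.End k (skew k (n + 1))) p := by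
      haveI : Nontrivial (skew k (n + 1)) :=
        ⟨j (Pi.single 0 1), 0, fun h => by
          have := congrArg r h
          rw [hrj, map_zero] at this
          simpa using congrFun this 0⟩
      exact charP_of_injective_ringHom (algebraMap k (Module.End k (skew k (n + 1)))).injective p
    have e2 : (∑ i ∈ Finset.range p, (Polynomial.X : Polynomial k) ^ i) =
        (Polynomial.X - 1) ^ (p - 1) := by
      refine mul_right_cancel₀ (b := (Polynomial.X : Polynomial k) - 1) ?_ ?_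
      · simpa using Polynomial.X_sub_C_ne_zero (1 : k)
      · rw [geom_sum_mul, ← pow_succ, Nat.sub_add_cancel hp.one_le, sub_pow_char, one_pow]
    have e3 := congrArg (Polynomial.aeval (skewRep ρ f.z)) e2
    simp only [map_sum, map_pow, map_sub, map_one, Polynomial.aeval_X] at e3
    rw [← e3]
    refine LinearMap.ext fun X => Subtype.ext ?_
    rw [LinearMap.zero_apply, Submodule.coe_zero, LinearMap.sum_apply, Submodule.coe_sum]
    simp only [← map_pow, skewRep_apply]
    set Z := ρ f.z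
    let C : Fin (n + 1) → Matrix (Fin (n + 1)) (Fin (n + 1)) k := fun r =>
      of fun s t => chain (n + 1) Z (Pi.single t 1) r s
    have hC : ∀ i : ℕ, Z ^ i = ∑ r : Fin (n + 1), (i : k) ^ (r : ℕ) • C r := by
      intro i
      ext s t
      have := congrFun (pow_mulVec_eq_sum (p := p) (show n + 1 ≤ p by omega) hD (Pi.single t 1) i) s
      simp only [Matrix.mulVec_single, MulOpposite.op_one, one_smul, Matrix.col_apply,
        Finset.sum_apply, Pi.smul_apply, smul_eq_mul] at this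
      rw [this, Matrix.sum_apply]
      exact Finset.sum_congr rfl fun r _ => by simp [C]
    have hexp : ∀ i : ℕ, Z ^ i * (X : Matrix _ _ k) * (Z ^ i)ᵀ =
        ∑ r : Fin (n + 1), ∑ s : Fin (n + 1),
          (i : k) ^ ((r : ℕ) + s) • (C r * (X : Matrix _ _ k) * (C s)ᵀ) := by
      intro i
      rw [hC i, Matrix.transpose_sum, Matrix.sum_mul, Matrix.sum_mul]
      refine Finset.sum_congr rfl fun r _ => ?_
      rw [Matrix.mul_sum]
      refine Finset.sum_congr rfl fun s _ => ?_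
      rw [Matrix.transpose_smul, Matrix.smul_mul, Matrix.smul_mul, Matrix.mul_smul, smul_smul,
        pow_add]
    simp only [map_pow]
    rw [Finset.sum_congr rfl fun i _ => hexp i, Finset.sum_comm]
    refine Finset.sum_eq_zero fun r _ => ?_
    rw [Finset.sum_comm]
    refine Finset.sum_eq_zero fun s _ => ?_
    rw [← Finset.sum_smul]
    by_cases hrs : (r : ℕ) + s + 1 < p
    · rw [sum_range_pow_eq_zero hrs, zero_smul]
    have hr : r = Fin.last n := Fin.ext (by simp only [Fin.val_last]; omega)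
    have hs : s = Fin.last n := Fin.ext (by simp only [Fin.val_last]; omega)
    subst hr hs
    -- the top coefficient has rank one
    have hB : ∀ (i : ℕ) (a b : Fin (n + 1)), ((blockA k (n + 1) - 1) ^ i) a b ≠ 0 →
        (b : ℕ) + i ≤ a := by
      intro i
      induction i with
      | zero =>
        intro a b h
        rw [pow_zero] at h
        by_contra h'
        exact h (Matrix.one_apply_ne fun e => h' (by rw [e]; omega))
      | succ i ih =>
        intro a b h
        rw [pow_succ, Matrix.mul_apply] at h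
        obtain ⟨c, -, hc⟩ := Finset.exists_ne_zero_of_sum_ne_zero h
        have h1 := ih a c (left_ne_zero_of_mul hc)
        have h2 : (b : ℕ) + 1 ≤ c := by
          by_contra h'
          refine right_ne_zero_of_mul hc ?_
          rcases lt_or_eq_of_le (show (c : ℕ) ≤ b by omega) with h3 | h3
          · simp [blockA, Nat.choose_eq_zero_of_lt h3, Matrix.one_apply_ne (fun e => h3.ne (congrArg Fin.val e))]
          · simp [blockA, Fin.ext h3]
        omega
    set B := (blockA k (n + 1) - 1) ^ n with hBdef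
    set c₀ := (descPochhammer k n).coeff n / ((Nat.factorial n : ℕ) : k) with hc₀
    have hCn : C (Fin.last n) = c₀ • (Z - 1) ^ n := by
      ext s t
      simp only [C, of_apply, chain, Fin.val_last, Finset.sum_apply, Pi.smul_apply,
        Matrix.mulVec_single, MulOpposite.op_one, one_smul, Matrix.col_apply]
      rw [Finset.sum_eq_single (Fin.last n)]
      · simp [hc₀, Matrix.smul_apply]
      · intro b _ hb
        rw [coeff_descPochhammer_of_lt (by
          rcases lt_or_eq_of_le (Fin.le_last b) with h | h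
          · exact h
          · exact absurd h hb), zero_div, zero_smul]
      · simp
    have hZB : ∀ i, (Z - 1) ^ i * ι = ι * (blockA k (n + 1) - 1) ^ i := by
      intro i
      induction i with
      | zero => simp
      | succ i ih =>
        have h1 : (Z - 1) * ι = ι * (blockA k (n + 1) - 1) := by
          rw [Matrix.sub_mul, hZι, Matrix.one_mul, Matrix.mul_sub, Matrix.mul_one]
        rw [pow_succ, pow_succ, Matrix.mul_assoc, h1, ← Matrix.mul_assoc, ih, Matrix.mul_assoc]
    have hZn : (Z - 1) ^ n = ι * B * L := by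
      rw [hBdef, ← hZB, Matrix.mul_assoc, hιL, Matrix.mul_one]
    set X' := L * (X : Matrix _ _ k) * Lᵀ with hX'
    have hBXB : B * X' * Bᵀ = 0 := by
      have h00 : X' 0 0 = 0 := by
        have hXs : (X : Matrix (Fin (n + 1)) (Fin (n + 1)) k)ᵀ =
            -(X : Matrix (Fin (n + 1)) (Fin (n + 1)) k) := X.2
        have h1 : X'ᵀ = -X' := by
          rw [hX', transpose_mul, transpose_mul, transpose_transpose, hXs]
          simp [Matrix.mul_assoc]
        have h2 := congrFun (congrFun h1 0) 0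
        rw [transpose_apply, Matrix.neg_apply] at h2
        have h3 : (2 : k) * X' 0 0 = 0 := by linear_combination h2
        refine (mul_eq_zero.mp h3).resolve_left fun h => ?_
        have := Nat.le_of_dvd two_pos ((CharP.cast_eq_zero_iff k p 2).mp (by exact_mod_cast h))
        omega
      ext a b
      rw [Matrix.mul_apply, Matrix.zero_apply]
      refine Finset.sum_eq_zero fun c _ => ?_
      rw [transpose_apply, Matrix.mul_apply]
      by_cases hc : B b c = 0
      · rw [hc, mul_zero]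
      have hc0 : c = 0 := Fin.ext (by have := hB n b c hc; simp only [Fin.val_zero]; omega)
      rw [Finset.sum_eq_zero, zero_mul]
      intro c' _
      by_cases hc' : B a c' = 0
      · rw [hc', zero_mul]
      have hc0' : c' = 0 := Fin.ext (by have := hB n a c' hc'; simp only [Fin.val_zero]; omega)
      rw [hc0, hc0', h00, mul_zero]
    rw [hCn, hZn]
    simp only [Matrix.transpose_smul, Matrix.smul_mul, Matrix.mul_smul, Matrix.transpose_mul]
    rw [show ι * B * L * (X : Matrix _ _ k) * (Lᵀ * (Bᵀ * ιᵀ)) = ι * (B * X' * Bᵀ) * ιᵀ by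
      simp only [hX', Matrix.mul_assoc], hBXB]
    simp
  obtain ⟨R, j', r', hRz, -, -, -⟩ := stage f (skewRep ρ) hnil j r hrj
    (fun c => Subtype.ext (by rw [skewRep_apply, hjc, hjc]; exact hz1 c))
    (fun X => by rw [hrx, hrx, skewRep_apply]; exact hz2 _)
    ((μ ^ 2 * (f.A : k) ^ n) • diagonal ![(f.A : k)⁻¹, 1, (f.A : k)])
    (fun c => Subtype.ext (by rw [skewRep_apply, hjc, hjc]; exact hw1 c))
    (fun X => by rw [hrx, hrx, skewRep_apply]; exact hw2 _)
  exact ⟨R, hRz⟩

/-- A faithful module of dimension at most `(p + 1) / 2` gives an orthogonal one of dimension 3. -/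
theorem exists_adjoint {d : ℕ} (f : Frob G p k) (ρ : G →* Matrix (Fin d) (Fin d) k)
    (hinj : Function.Injective ρ) (hd : 2 * d ≤ p ∨ (2 * d = p + 1 ∧ 4 ∣ p - 1 ∧ 7 ≤ p)) :
    ∃ R : G →* Matrix (Fin 3) (Fin 3) k,
      R f.z = adA k ∧ ∀ g, (R g)ᵀ * form3 k * R g = form3 k := by
  classical
  have hp : p.Prime := Fact.out
  set D := ρ f.z - 1 with hDdef
  have hd0 : D ≠ 0 := by
    intro h
    have h1 : ρ f.z = ρ 1 := by rw [map_one]; exact sub_eq_zero.mp h
    have := f.hz
    rw [hinj h1, orderOf_one] at this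
    exact hp.ne_one this.symm
  haveI : Nonempty (Fin d) := by
    by_contra h
    haveI := not_nonempty_iff.mp h
    exact hd0 (Matrix.ext fun i => isEmptyElim i)
  haveI : CharP (Matrix (Fin d) (Fin d) k) p :=
    charP_of_injective_ringHom (algebraMap k (Matrix (Fin d) (Fin d) k)).injective p
  have hpp : D ^ p = 0 := by
    rw [hDdef, sub_pow_char_of_commute p (Commute.one_right _), one_pow, ← map_pow,
      orderOf_dvd_iff_pow_eq_one.mp (dvd_of_eq f.hz), map_one, sub_self]
  have hnil : IsNilpotent D := ⟨p, hpp⟩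
  set ℓ := nilpotencyClass D
  have hDℓ : D ^ ℓ = 0 := pow_nilpotencyClass hnil
  have hℓ : 2 ≤ ℓ := by
    by_contra h
    have h1 : D ^ 1 = 0 := pow_eq_zero_of_le (by omega) hDℓ
    exact hd0 (by simpa using h1)
  have hℓd : ℓ ≤ d := by
    have h1 : D ^ d = 0 := by
      have h2 : (Matrix.toLin' D) ^ d = 0 := by
        have h3 : IsNilpotent (Matrix.toLinAlgEquiv' D) := hnil.map _
        have h4 := (LinearMap.isNilpotent_iff_charpoly _).mp h3
        rw [Module.finrank_fintype_fun_eq_card, Fintype.card_fin] at h4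
        have h5 := LinearMap.aeval_self_charpoly (Matrix.toLinAlgEquiv' D)
        rw [h4, map_pow, Polynomial.aeval_X] at h5
        exact h5
      have h6 := congrArg LinearMap.toMatrix' h2
      rw [show (Matrix.toLin' D) ^ d = Matrix.toLin' (D ^ d) from
        (map_pow Matrix.toLinAlgEquiv' D d).symm, LinearMap.toMatrix'_toLin', map_zero] at h6
      exact h6
    exact Nat.sInf_le h1
  have hDℓ' : D ^ (ℓ - 1) ≠ 0 := pow_pred_nilpotencyClass hnil
  by_cases hsmall : 2 * ℓ ≤ p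
  · exact exists_adjoint_small f ρ hℓ hsmall hDℓ hDℓ'
  obtain ⟨h1, h4, h7⟩ : 2 * d = p + 1 ∧ 4 ∣ p - 1 ∧ 7 ≤ p := by
    rcases hd with h | h
    · omega
    · exact h
  obtain ⟨n, rfl⟩ : ∃ n, d = n + 1 := ⟨d - 1, by omega⟩
  have hev : Even n := by obtain ⟨c, hc⟩ := h4; exact ⟨c, by omega⟩
  obtain ⟨R, hR⟩ := exists_adjoint_half f ρ (by omega) hev (by omega)
    (pow_eq_zero_of_le (by omega) hDℓ) (fun h => hDℓ' (pow_eq_zero_of_le (by omega) h))
  have e2 : (adA k - 1) ^ 2 ≠ 0 := fun h => by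
    have h2' : (2 : k) = 0 := by
      have := congrFun (congrFun h 2) 0
      simpa [adA, pow_two, Matrix.mul_apply, Fin.sum_univ_three, Matrix.one_apply] using this
    have := Nat.le_of_dvd two_pos ((CharP.cast_eq_zero_iff k p 2).mp (by exact_mod_cast h2'))
    omega
  have e3 : (adA k - 1) ^ 3 = 0 := by
    ext i j
    fin_cases i <;> fin_cases j <;>
      simp [adA, pow_succ, Matrix.mul_apply, Fin.sum_univ_three, Matrix.one_apply]
  exact exists_adjoint_small f R (ℓ := 3) (by omega) (by omega) (by rw [hR]; exact e3)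
    (by rw [hR]; exact e2)

end Cfsg.Agent.SmallGroups.Mod
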